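import Mathlib

/-!
Fixed point sets in transitive actions in which a nonidentity element fixes at most four points.
-/

set_option autoImplicit false

namespace CfsgLib.FixityFour

open MulAction
open scoped Pointwise

variable {G : Type*} [Group G] {Ω : Type*} [MulAction G Ω]

variable (G Ω) in
/-- A faithful transitive action on more than four points of a nonabelian simple group in which
nonidentity elements fix at most four points. -/
structure Data : Prop where
  simple : IsSimpleGroup G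
  hna : ¬ IsMulCommutative G
  trans : IsPretransitive G Ω
  faith : FaithfulSMul G Ω
  fix : ∀ g : G, g ≠ 1 → (fixedBy Ω g).ncard ≤ 4
  big : 4 < Nat.card Ω

theorem pow_smul_eq {g : G} {a : Ω} (h : g • a = a) (k : ℕ) : g ^ k • a = a :=
  (pow_mem (show g ∈ stabilizer G a from h) k :)

theorem fix_conj (c g : G) : fixedBy Ω (c * g * c⁻¹) = c • fixedBy Ω g := (smul_fixedBy Ω g c).symm

theorem stab_of_commute {c g : G} (h : Commute c g) : c ∈ stabilizer G (fixedBy Ω g) := by
  rw [mem_stabilizer_iff, ← fix_conj, h.eq, mul_inv_cancel_right]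

theorem smul_mem_of_commute {c g : G} (h : Commute c g) {a : Ω} (ha : a ∈ fixedBy Ω g) :
    c • a ∈ fixedBy Ω g := by
  show g • c • a = c • a
  rw [smul_smul, ← h.eq, mul_smul, show g • a = a from ha]

theorem smul_mem_of_stab {g : G} {F : Set Ω} (hg : g ∈ stabilizer G F) {a : Ω} (ha : a ∈ F) :
    g • a ∈ F := by
  have h := Set.smul_mem_smul_set (a := g) ha
  rwa [mem_stabilizer_iff.1 hg] at h

/-- A homomorphism of a nonabelian simple group into a commutative group is trivial. -/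
theorem hom_eq_one {A : Type*} [CommGroup A] (hs : IsSimpleGroup G) (hna : ¬ IsMulCommutative G)
    (f : G →* A) (g : G) : f g = 1 := by
  rcases hs.eq_bot_or_eq_top_of_normal f.ker inferInstance with h | h
  · exact absurd ⟨⟨fun a b => (f.ker_eq_bot_iff.1 h) (by rw [map_mul, map_mul, mul_comm])⟩⟩ hna
  · exact f.mem_ker.1 (h ▸ Subgroup.mem_top g)

/-- A conjugate of an element of `p`-power order lies in a given Sylow subgroup. -/
theorem exists_conj_mem [Finite G] {p : ℕ} [Fact p.Prime] (P : Sylow p G) {x : G} {k : ℕ}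
    (hx : x ^ p ^ k = 1) : ∃ g : G, g * x * g⁻¹ ∈ (P : Subgroup G) := by
  obtain ⟨j, -, hj⟩ := (Nat.dvd_prime_pow Fact.out).1 (orderOf_dvd_of_pow_eq_one hx)
  obtain ⟨T, hT⟩ := (IsPGroup.of_card (p := p) (n := j)
    (by rw [Nat.card_zpowers, hj]) : IsPGroup p (Subgroup.zpowers x)).exists_le_sylow
  obtain ⟨g, hg⟩ := exists_smul_eq G T P
  exact ⟨g, by rw [← hg]; exact ⟨x, hT (Subgroup.mem_zpowers x), rfl⟩⟩

/-- Inside a subgroup containing a Sylow subgroup the conjugating element can be chosen there. -/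
theorem exists_conj_mem_of_le [Finite G] {p : ℕ} [Fact p.Prime] (P : Sylow p G) {M : Subgroup G}
    (hPM : (P : Subgroup G) ≤ M) {x : G} {k : ℕ} (hxM : x ∈ M) (hx : x ^ p ^ k = 1) :
    ∃ m ∈ M, m * x * m⁻¹ ∈ (P : Subgroup G) := by
  obtain ⟨m, hm⟩ := exists_conj_mem (P.subtype hPM) (x := (⟨x, hxM⟩ : M)) (k := k)
    (Subtype.ext (by rw [Subgroup.coe_pow]; exact hx))
  exact ⟨m, m.2, hm⟩

/-- A `p`-subgroup centralizing `x` lies in the centralizer part of some Sylow subgroup of largest size. -/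
theorem exists_sylow_centralizer [Finite G] {p : ℕ} [Fact p.Prime] (x : G) (X : Subgroup G)
    (hX : IsPGroup p X) (hXx : ∀ c ∈ X, Commute c x) (hx : ∃ k, x ^ p ^ k = 1) :
    ∃ P : Sylow p G, x ∈ (P : Subgroup G) ∧ X ≤ P ∧ ∀ Y : Subgroup G, IsPGroup p Y →
      (∀ c ∈ Y, Commute c x) →
      Nat.card Y ≤ Nat.card ↥((P : Subgroup G) ⊓ Subgroup.centralizer {x}) := by
  set C := Subgroup.centralizer ({x} : Set G) with hC
  have hmem : ∀ c : G, c ∈ C ↔ Commute c x := fun c =>
    Subgroup.mem_centralizer_singleton_iff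
  have hXC : X ≤ C := fun c hc => (hmem c).2 (hXx c hc)
  obtain ⟨W, hW⟩ := (hX.comap_subtype (K := C) : IsPGroup p (X.subgroupOf C)).exists_le_sylow
  have hW' : IsPGroup p ((W : Subgroup C).map C.subtype) := W.isPGroup'.map _
  obtain ⟨P, hP⟩ := hW'.exists_le_sylow
  have hle : X ≤ (W : Subgroup C).map C.subtype := fun c hc => ⟨⟨c, hXC hc⟩, hW hc, rfl⟩
  have hmax : ∀ Y : Subgroup G, IsPGroup p Y → (∀ c ∈ Y, Commute c x) →
      Nat.card Y ≤ Nat.card ↥((P : Subgroup G) ⊓ C) := by
    intro Y hY hYx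
    obtain ⟨W', hW''⟩ := (hY.comap_subtype (K := C) : IsPGroup p (Y.subgroupOf C)).exists_le_sylow
    have h1 : Nat.card Y ≤ Nat.card (W' : Subgroup C) := by
      rw [← Nat.card_congr (Subgroup.subgroupOfEquivOfLe
        (show Y ≤ C from fun c hc => (hmem c).2 (hYx c hc))).toEquiv]
      exact Subgroup.card_le_of_le hW''
    rw [W'.card_eq_multiplicity, ← W.card_eq_multiplicity] at h1
    refine h1.trans ?_
    rw [← Subgroup.card_map_of_injective C.subtype_injective (K := (W : Subgroup C))]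
    exact Subgroup.card_le_of_le (le_inf hP (Subgroup.map_subtype_le _))
  refine ⟨P, ?_, hle.trans hP, hmax⟩
  obtain ⟨k, hk⟩ := hx
  -- `x` is central in its centralizer, so it lies in every Sylow subgroup of it
  obtain ⟨m, hm⟩ := exists_conj_mem W (x := (⟨x, (hmem x).2 (Commute.refl x)⟩ : C)) (k := k)
    (Subtype.ext (by rw [Subgroup.coe_pow]; exact hk))
  refine hP ⟨_, hm, ?_⟩
  show (m : G) * x * (m : G)⁻¹ = x
  rw [((hmem _).1 m.2).eq, mul_inv_cancel_right]

/-- A nontrivial subgroup normalized by a `p`-group contains a central element of order `p`. -/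
theorem exists_central [Finite G] {p : ℕ} [Fact p.Prime] {P N : Subgroup G} (hP : IsPGroup p P)
    (hNP : N ≤ P) (hN : ∀ g ∈ P, ∀ n ∈ N, g * n * g⁻¹ ∈ N) (hne : N ≠ ⊥) :
    ∃ z ∈ N, z ≠ 1 ∧ z ^ p = 1 ∧ ∀ g ∈ P, Commute g z := by
  let N' := N.subgroupOf P
  have : N'.Normal := ⟨fun n hn g => hN g g.2 n hn⟩
  have hN' : N' ≠ ⊥ := fun h => hne (by
    rw [eq_bot_iff]; intro n hn
    have : (⟨n, hNP hn⟩ : P) ∈ (⊥ : Subgroup P) := h ▸ (show (⟨n, hNP hn⟩ : P) ∈ N' from hn)
    exact Subgroup.mem_bot.2 (congrArg Subtype.val (Subgroup.mem_bot.1 this)))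
  have : Nontrivial N' := (Subgroup.nontrivial_iff_ne_bot _).2 hN'
  have hne' : N' ⊓ Subgroup.center P ≠ ⊥ := by
    intro h
    have hbot := Subgroup.eq_bot_iff_forall _ |>.1 h
    have h1 : p ∣ Nat.card N' := by
      obtain ⟨k, hk0, hk⟩ := (hP.to_subgroup N').nontrivial_iff_card.1 inferInstance
      exact hk ▸ dvd_pow_self p hk0.ne'
    have hP' : IsPGroup p (ConjAct P) := hP.of_equiv ConjAct.toConjAct
    obtain ⟨n, hn, hn1⟩ := hP'.exists_fixed_point_of_prime_dvd_card_of_fixed_point N' h1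
      (a := 1) (fun g => smul_one g)
    apply hn1
    refine Subtype.ext (hbot n ⟨n.2, Subgroup.mem_center_iff.2 fun g => ?_⟩).symm
    have := congrArg Subtype.val (hn (ConjAct.toConjAct g))
    simp only [ConjAct.Subgroup.val_conj_smul, ConjAct.toConjAct_smul] at this
    exact mul_inv_eq_iff_eq_mul.1 this
  obtain ⟨z, hz, hz1⟩ := (Subgroup.bot_or_exists_ne_one _).resolve_left hne'
  obtain ⟨k, hk⟩ := hP z
  classical
  have hord : ∃ j, z ^ p ^ j = 1 := ⟨k, hk⟩
  obtain ⟨j, hj⟩ : ∃ j, Nat.find hord = j + 1 :=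
    ⟨Nat.find hord - 1, (Nat.succ_pred_eq_of_pos (by
      rcases Nat.eq_zero_or_pos (Nat.find hord) with h | h
      · have := Nat.find_spec hord
        rw [h, pow_zero, pow_one] at this
        exact absurd this hz1
      · exact h)).symm⟩
  obtain ⟨hzN, hzc⟩ := Subgroup.mem_inf.1 (pow_mem hz (p ^ j))
  refine ⟨((z ^ p ^ j : P) : G), hzN, fun e => ?_, ?_, fun g hg => ?_⟩
  · exact Nat.find_min hord (show j < Nat.find hord by omega) (Subtype.ext e)
  · rw [← Subgroup.coe_pow, ← pow_mul, ← pow_succ, ← hj, Nat.find_spec hord]; rfl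
  · exact congrArg Subtype.val (Subgroup.mem_center_iff.1 hzc ⟨g, hg⟩)

/-- Setwise stabilizers of small nonempty sets are proper. -/
theorem Data.stab_ne_top [Finite Ω] (d : Data G Ω) {F : Set Ω} (hne : F.Nonempty) (h4 : F.ncard ≤ 4) :
    stabilizer G F ≠ ⊤ := by
  intro h
  obtain ⟨a, ha⟩ := hne
  have : F = Set.univ := Set.eq_univ_of_forall fun b => by
    obtain ⟨g, hg⟩ := d.trans.exists_smul_eq a b
    exact hg ▸ smul_mem_of_stab (h ▸ Subgroup.mem_top g) ha
  rw [this, Set.ncard_univ] at h4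
  exact absurd d.big (by omega)

theorem ne_one_of_orderOf {g : G} {q : ℕ} (hq : q ≠ 1) (h : orderOf g = q) : g ≠ 1 :=
  fun e => hq (by rw [← h, e, orderOf_one])

/-- An element fixing as many points as another element's fixed set, containing it, has that fixed set. -/
theorem Data.fix_eq [Finite Ω] (d : Data G Ω) {g : G} (hg : g ≠ 1) {F : Set Ω} (hF : 4 ≤ F.ncard)
    (h : F ⊆ fixedBy Ω g) : fixedBy Ω g = F :=
  (Set.eq_of_subset_of_ncard_le h ((d.fix g hg).trans hF) (Set.toFinite _)).symm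

/-- The fixed points of an element of order `p` and the points of an invariant set agree modulo `p`. -/
theorem ncard_modEq [Finite Ω] {p : ℕ} [Fact p.Prime] {g : G} {k : ℕ} (hg : g ^ p ^ k = 1)
    {F : Set Ω} (hF : g ∈ stabilizer G F) : F.ncard ≡ (F ∩ fixedBy Ω g).ncard [MOD p] := by
  let Z := Subgroup.zpowers g
  have hZ : IsPGroup p Z := by
    rintro ⟨x, hx⟩
    obtain ⟨i, rfl⟩ := hx
    refine ⟨k, Subtype.ext ?_⟩
    rw [Subgroup.coe_pow, ← zpow_natCast, ← zpow_mul, mul_comm, zpow_mul, zpow_natCast, hg,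
      one_zpow]
    rfl
  let S : SubMulAction Z Ω :=
    { carrier := F
      smul_mem' := fun z a ha => smul_mem_of_stab (Subgroup.zpowers_le.2 hF z.2) ha }
  have h := hZ.card_modEq_card_fixedPoints S
  have e1 : Nat.card S = F.ncard := (Nat.card_coe_set_eq F)
  have e2 : Nat.card (fixedPoints Z S) = (F ∩ fixedBy Ω g).ncard := by
    rw [← Nat.card_coe_set_eq (F ∩ fixedBy Ω g)]
    refine Nat.card_congr
      { toFun := fun a => ⟨(a.1 : Ω), a.1.2, congrArg Subtype.val (a.2 ⟨g, Subgroup.mem_zpowers g⟩)⟩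
        invFun := fun a => ⟨⟨a.1, a.2.1⟩, fun z => Subtype.ext ?_⟩
        left_inv := fun a => rfl
        right_inv := fun a => rfl }
    exact (Subgroup.zpowers_le.2 (show g ∈ stabilizer G (a.1) from a.2.2) z.2 :)
  rwa [e1, e2] at h

end CfsgLib.FixityFour
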