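import Mathlib

/-!
Products over a set of elements of a group of order nine and exponent three.
-/

set_option autoImplicit false

namespace CfsgLib.FixityFour

variable {A : Type*} [CommGroup A]

/-- Elements meeting each inverse pair at most once, their number not a multiple of three, have
nontrivial product. -/
theorem prod_ne_one (hA : Nat.card A = 9) (h3 : ∀ a : A, a ^ 3 = 1) (I : Finset A) (h1 : (1 : A) ∉ I)
    (hinv : ∀ a ∈ I, a⁻¹ ∉ I) (hcard : ¬ 3 ∣ I.card) : ∏ a ∈ I, a ≠ 1 := by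
  classical
  have : Finite A := Nat.finite_of_card_ne_zero (by omega)
  have := Fintype.ofFinite A
  have hdisj : Disjoint I (I.image fun a => a⁻¹) := by
    rw [Finset.disjoint_left]
    intro a ha hb
    obtain ⟨b, hb', rfl⟩ := Finset.mem_image.1 hb
    exact hinv b hb' ha
  have hsub : I ∪ I.image (fun a => a⁻¹) ⊆ Finset.univ.erase 1 := by
    intro a ha
    refine Finset.mem_erase.2 ⟨fun e => ?_, Finset.mem_univ _⟩
    rcases Finset.mem_union.1 ha with h | h
    · exact h1 (e ▸ h)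
    · obtain ⟨b, hb, rfl⟩ := Finset.mem_image.1 h
      exact h1 (inv_eq_one.1 e ▸ hb)
  have h8 : (Finset.univ.erase (1 : A)).card = 8 := by
    rw [Finset.card_erase_of_mem (Finset.mem_univ _), Finset.card_univ, ← Nat.card_eq_fintype_card, hA]
  have hu : (I ∪ I.image fun a => a⁻¹).card = 2 * I.card := by
    rw [Finset.card_union_of_disjoint hdisj, Finset.card_image_of_injective _ inv_injective]
    ring
  have hle := Finset.card_le_card hsub
  have hne : I.card ≠ 0 := fun e => hcard (by rw [e]; exact dvd_zero 3)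
  have h3' : I.card ≠ 3 := fun e => hcard (by rw [e])
  rw [h8, hu] at hle
  rcases (show I.card = 1 ∨ I.card = 2 ∨ I.card = 4 by omega) with hc | hc | hc
  · obtain ⟨a, rfl⟩ := Finset.card_eq_one.1 hc
    simpa using fun e : a = 1 => h1 (Finset.mem_singleton.2 e.symm)
  · obtain ⟨a, b, hab, rfl⟩ := Finset.card_eq_two.1 hc
    rw [Finset.prod_pair hab]
    intro e
    exact hinv a (Finset.mem_insert_self _ _)
      (by simp [eq_inv_of_mul_eq_one_right e])
  obtain ⟨a, ha⟩ := Finset.card_pos.1 (show 0 < I.card by omega)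
  obtain ⟨b, hb, hba⟩ := I.exists_mem_ne (show 1 < I.card by omega) a
  have hall : ∀ x : A, x ≠ 1 → x ∈ I ∨ x⁻¹ ∈ I := by
    intro x hx
    have := Finset.eq_of_subset_of_card_le hsub (by omega)
    have hx' : x ∈ Finset.univ.erase (1 : A) := Finset.mem_erase.2 ⟨hx, Finset.mem_univ _⟩
    rw [← this] at hx'
    rcases Finset.mem_union.1 hx' with h | h
    · exact Or.inl h
    · obtain ⟨y, hy, rfl⟩ := Finset.mem_image.1 h
      exact Or.inr (by rwa [inv_inv])
  have hA1 : a ≠ 1 := fun e => h1 (e ▸ ha)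
  have hB1 : b ≠ 1 := fun e => h1 (e ▸ hb)
  have hainv : a * a = a⁻¹ := eq_inv_of_mul_eq_one_left (by rw [← pow_two, ← pow_succ]; exact h3 a)
  have hbinv : b * b = b⁻¹ := eq_inv_of_mul_eq_one_left (by rw [← pow_two, ← pow_succ]; exact h3 b)
  have hnab : a * b ≠ 1 := fun e => hinv a ha (eq_inv_of_mul_eq_one_right e ▸ hb)
  have hnab' : a * b⁻¹ ≠ 1 := fun e => hba (mul_inv_eq_one.1 e).symm
  obtain ⟨c, hc', hcI⟩ : ∃ c, (c = a * b ∨ c = a⁻¹ * b⁻¹) ∧ c ∈ I := by
    rcases hall _ hnab with h | h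
    · exact ⟨_, Or.inl rfl, h⟩
    · exact ⟨_, Or.inr rfl, by rwa [mul_inv] at h⟩
  obtain ⟨e, he', heI⟩ : ∃ e, (e = a * b⁻¹ ∨ e = a⁻¹ * b) ∧ e ∈ I := by
    rcases hall _ hnab' with h | h
    · exact ⟨_, Or.inl rfl, h⟩
    · exact ⟨_, Or.inr rfl, by rwa [mul_inv, inv_inv] at h⟩
  have hca : c ≠ a := by
    rcases hc' with rfl | rfl <;> intro h
    · exact hB1 (mul_eq_left.1 h)
    · refine hba ?_
      rw [inv_mul_eq_iff_eq_mul, hainv] at h
      exact inv_injective h
  have hcb : c ≠ b := by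
    rcases hc' with rfl | rfl <;> intro h
    · exact hA1 (mul_eq_right.1 h)
    · refine hba ?_
      rw [mul_inv_eq_iff_eq_mul, hbinv] at h
      exact (inv_injective h).symm
  have hea : e ≠ a := by
    rcases he' with rfl | rfl <;> intro h
    · exact hB1 (inv_eq_one.1 (mul_eq_left.1 h))
    · rw [inv_mul_eq_iff_eq_mul, hainv] at h
      exact hinv a ha (h ▸ hb)
  have heb : e ≠ b := by
    rcases he' with rfl | rfl <;> intro h
    · rw [mul_inv_eq_iff_eq_mul, hbinv] at h
      exact hinv b hb (h ▸ ha)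
    · exact hA1 (inv_eq_one.1 (mul_eq_right.1 h))
  have hce : c ≠ e := by
    rcases hc' with rfl | rfl <;> rcases he' with rfl | rfl <;> intro h
    · have h' : b * b = 1 := eq_inv_iff_mul_eq_one.1 (mul_left_cancel h)
      exact hB1 (inv_eq_one.1 (hbinv ▸ h'))
    · have h' : a * a = 1 := eq_inv_iff_mul_eq_one.1 (mul_right_cancel h)
      exact hA1 (inv_eq_one.1 (hainv ▸ h'))
    · have h' : a * a = 1 := eq_inv_iff_mul_eq_one.1 (mul_right_cancel h).symm
      exact hA1 (inv_eq_one.1 (hainv ▸ h'))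
    · have h' : b * b = 1 := eq_inv_iff_mul_eq_one.1 (mul_left_cancel h).symm
      exact hB1 (inv_eq_one.1 (hbinv ▸ h'))
  have hI : I = {a, b, c, e} := by
    refine (Finset.eq_of_subset_of_card_le (by simp [Finset.insert_subset_iff, ha, hb, hcI, heI]) ?_).symm
    rw [hc, Finset.card_insert_of_notMem, Finset.card_insert_of_notMem, Finset.card_pair hce] <;>
      simp [hba.symm, hca.symm, hea.symm, hcb.symm, heb.symm]
  rw [hI, Finset.prod_insert (by simp [hba.symm, hca.symm, hea.symm]),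
    Finset.prod_insert (by simp [hcb.symm, heb.symm]), Finset.prod_pair hce]
  have hA3 : a * (a * a) = 1 := by rw [hainv, mul_inv_cancel]
  have hB3 : b * (b * b) = 1 := by rw [hbinv, mul_inv_cancel]
  rcases hc' with rfl | rfl <;> rcases he' with rfl | rfl
  · rw [show a * (b * (a * b * (a * b⁻¹))) = (a * (a * a)) * b by
      rw [mul_comm a b, mul_comm a b⁻¹]; simp [mul_comm, mul_left_comm, mul_assoc], hA3, one_mul]
    exact hB1
  · rw [show a * (b * (a * b * (a⁻¹ * b))) = (b * (b * b)) * a by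
      simp [mul_comm, mul_left_comm, mul_assoc], hB3, one_mul]
    exact hA1
  · rw [show a * (b * (a⁻¹ * b⁻¹ * (a * b⁻¹))) = a * b⁻¹ by
      simp [mul_comm, mul_left_comm]]
    exact hnab'
  · rw [show a * (b * (a⁻¹ * b⁻¹ * (a⁻¹ * b))) = (a * b⁻¹)⁻¹ by
      rw [show a * (b * (a⁻¹ * b⁻¹ * (a⁻¹ * b))) = (a * a⁻¹) * (b * b⁻¹) * (a⁻¹ * b) by
        simp only [mul_comm, mul_left_comm, mul_assoc]]
      simp [mul_comm]]
    exact fun e => hnab' (inv_eq_one.1 e)

end CfsgLib.FixityFour
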