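import Cfsg.Agent.Lib.FixityFour.RankMain
import Cfsg.Agent.Lib.TwoGroups.FixityTwo
import Cfsg.Agent.Lib.HaradaFour.Main
import Cfsg.Prelude.Def_TwoFusion
import Cfsg.Prelude.Def_Involutions

/-!
The case of involutions with fixed points: a strongly embedded subgroup, a Sylow 2-subgroup of
maximal class, or sectional 2-rank at most 4.
-/

set_option autoImplicit false
set_option linter.unusedSectionVars false

namespace CfsgLib.FixityFour

open MulAction
open scoped Pointwise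

variable {G : Type*} [Group G] [Finite G] {Ω : Type*} [MulAction G Ω] [Finite Ω]

/-- Fixed points of an involution and all points agree modulo 4: simple groups act by even permutations. -/
theorem Data.fix_modEq (d : Data G Ω) {t : G} (ht : orderOf t = 2) :
    Nat.card Ω % 4 = (fixedBy Ω t).ncard % 4 := by
  classical
  cases nonempty_fintype Ω
  set σ := MulAction.toPermHom G Ω t with hσ
  have hsign : Equiv.Perm.sign σ = 1 :=
    hom_eq_one d.simple d.hna (Equiv.Perm.sign.comp (MulAction.toPermHom G Ω)) t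
  have h2 : σ * σ = 1 := by
    rw [hσ, ← map_mul, ← pow_two, ← ht, pow_orderOf_eq_one, map_one]
  have hall : ∀ c ∈ σ.cycleType, c = 2 := by
    intro c hc
    have h1 : c ∣ orderOf σ := Equiv.Perm.lcm_cycleType σ ▸ Multiset.dvd_lcm hc
    have h3 : orderOf σ ∣ 2 := orderOf_dvd_of_pow_eq_one (by rw [pow_two, h2])
    have := Nat.le_of_dvd two_pos (h1.trans h3)
    have := Equiv.Perm.two_le_of_mem_cycleType hc
    omega
  have hrep := Multiset.eq_replicate_card.mpr hall
  set m := Multiset.card σ.cycleType with hm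
  have hsupp : σ.support.card = 2 * m := by
    rw [← Equiv.Perm.sum_cycleType, hrep, Multiset.sum_replicate, smul_eq_mul]
    ring
  rw [Equiv.Perm.sign_of_cycleType, ← hm, Equiv.Perm.sum_cycleType, hsupp, pow_add, pow_mul,
    neg_one_sq, one_pow, one_mul] at hsign
  obtain ⟨k, hk⟩ : Even m := by
    by_contra hodd
    rw [(Nat.not_even_iff_odd.1 hodd).neg_one_pow] at hsign
    exact absurd hsign (by decide)
  have hcompl : σ.supportᶜ = (fixedBy Ω t).toFinset := by
    ext x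
    simp [hσ]
  have hc := Finset.card_compl σ.support
  rw [hcompl, ← Set.ncard_eq_toFinset_card'] at hc
  have hle := Finset.card_le_univ σ.support
  rw [Nat.card_eq_fintype_card]
  omega

variable (G Ω) in
/-- The hypotheses with involutions fixing points. -/
structure EvenData (f : ℕ) : Prop where
  data : Data G Ω
  max : ∀ g : G, orderOf g = 2 → (fixedBy Ω g).ncard ≤ f
  att : ∃ g : G, orderOf g = 2 ∧ (fixedBy Ω g).ncard = f
  pos : 1 ≤ f

theorem EvenData.le_four {f : ℕ} (d : EvenData G Ω f) : f ≤ 4 := by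
  obtain ⟨g, hg, hgf⟩ := d.att
  exact hgf ▸ d.data.fix g (fun e => by rw [e, orderOf_one] at hg; omega)

theorem orderOf_conjugate (t g : G) : orderOf (g * t * g⁻¹) = orderOf t :=
  (MulAut.conj g).orderOf_eq t

theorem orderOf_two_iff {u : G} : orderOf u = 2 ↔ u ^ 2 = 1 ∧ u ≠ 1 :=
  orderOf_eq_prime_iff

/-- An involution with a fixed point fixes `f` points; for `f ≤ 3` every involution does. -/
theorem EvenData.card_fix {f : ℕ} (d : EvenData G Ω f) {t : G} (ht : orderOf t = 2)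
    (h : f ≤ 3 ∨ (fixedBy Ω t).Nonempty) : (fixedBy Ω t).ncard = f := by
  obtain ⟨g, hg, hgf⟩ := d.att
  have h1 := d.data.fix_modEq hg
  have h2 := d.data.fix_modEq ht
  have h3 := d.max t ht
  have h4 := d.le_four
  have h5 := d.pos
  rw [hgf] at h1
  rcases h with h | h
  · omega
  · have := (Set.ncard_pos (Set.toFinite _)).2 h
    omega

/-- An element with the fixed points of a good involution and one more cannot be an involution. -/
theorem EvenData.no_extra {f : ℕ} (d : EvenData G Ω f) {t u : G} (ht : orderOf t = 2)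
    (hfu : (fixedBy Ω u).ncard = f) (h : fixedBy Ω u ⊆ fixedBy Ω t) : fixedBy Ω t = fixedBy Ω u :=
  (Set.eq_of_subset_of_ncard_le h (hfu ▸ d.max t ht) (Set.toFinite _)).symm

/-- Some power of a nontrivial 2-element is an involution. -/
theorem exists_involution_pow {x : G} (hx : x ≠ 1) {k : ℕ} (hk : x ^ 2 ^ k = 1) :
    ∃ j : ℕ, orderOf (x ^ j) = 2 := by
  obtain ⟨i, -, hi⟩ := (Nat.dvd_prime_pow Nat.prime_two).1 (orderOf_dvd_of_pow_eq_one hk)
  rcases i with _ | i
  · exact absurd (orderOf_eq_one_iff.1 (by simpa using hi)) hx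
  · exact ⟨2 ^ i, by rw [orderOf_pow' _ (by positivity), hi, Nat.gcd_eq_right (by rw [pow_succ]; exact dvd_mul_right _ _), pow_succ, Nat.mul_div_cancel_left _ (by positivity)]⟩

/-- One point: strong embedding of the point stabilizer. -/
theorem EvenData.stronglyEmbedded_one (d : EvenData G Ω 1) (a : Ω) :
    ∃ H : Subgroup G, Cfsg.IsStronglyEmbedded H := by
  have : Fact (Nat.Prime 2) := ⟨Nat.prime_two⟩
  obtain ⟨t, ht, htf⟩ := d.att
  obtain ⟨b, hb⟩ := Set.ncard_eq_one.1 htf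
  obtain ⟨g, hg⟩ := d.data.trans.exists_smul_eq b a
  refine ⟨stabilizer G a, ?_, ?_, fun c hc => ?_⟩
  · rw [← stabilizer_singleton a] at *
    exact d.data.stab_ne_top (F := ({a} : Set Ω)) ⟨a, rfl⟩ (by rw [Set.ncard_singleton]; norm_num)
  · have hta : g * t * g⁻¹ ∈ stabilizer G a := by
      show (g * t * g⁻¹) • a = a
      rw [mul_smul, mul_smul, show g⁻¹ • a = b by rw [← hg, inv_smul_smul],
        show t • b = b from (hb ▸ rfl : b ∈ fixedBy Ω t), hg]
    rw [even_iff_two_dvd, ← (orderOf_conjugate t g).trans ht, ← Subgroup.orderOf_mk (g * t * g⁻¹) hta]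
    exact orderOf_dvd_natCard _
  · rw [← Nat.not_even_iff_odd, even_iff_two_dvd]
    intro h2
    obtain ⟨⟨s, hs'⟩, hs⟩ := exists_prime_orderOf_dvd_card'
      (G := ↥(stabilizer G a ⊓ (stabilizer G a).map (MulAut.conj c).toMonoidHom)) 2 h2
    rw [Subgroup.orderOf_mk] at hs
    obtain ⟨hsa, w, hw, hws⟩ := Subgroup.mem_inf.1 hs'
    have hca : s • c • a = c • a := by
      rw [← hws]
      show (c * w * c⁻¹) • c • a = c • a
      rw [smul_smul, inv_mul_cancel_right, mul_smul, show w • a = a from hw]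
    exact hc (Set.ncard_le_one (Set.toFinite _) |>.1 ((d.max s hs)) _ hca _ hsa)

/-- All involutions of the Sylow subgroup fixing points share one fixed set, or two commuting ones
do not. -/
theorem EvenData.dichotomy {f : ℕ} (d : EvenData G Ω f) (S : Sylow 2 G) :
    (∃ F : Set Ω, F.ncard = f ∧ (S : Subgroup G) ≤ stabilizer G F ∧
      (∃ u ∈ (S : Subgroup G), orderOf u = 2 ∧ fixedBy Ω u = F) ∧
      ∀ u ∈ (S : Subgroup G), orderOf u = 2 → (fixedBy Ω u).ncard = f → fixedBy Ω u = F) ∨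
    ∃ z ∈ (S : Subgroup G), ∃ z' ∈ (S : Subgroup G), orderOf z = 2 ∧ orderOf z' = 2 ∧
      (fixedBy Ω z).ncard = f ∧ (fixedBy Ω z').ncard = f ∧ fixedBy Ω z ≠ fixedBy Ω z' ∧
      (∀ c ∈ (S : Subgroup G), Commute c z → Commute c z') ∧
      ∀ c ∈ (S : Subgroup G), c • fixedBy Ω z = fixedBy Ω z → Commute c z := by
  classical
  have : Fact (Nat.Prime 2) := ⟨Nat.prime_two⟩
  obtain ⟨t, ht, htf⟩ := d.att
  obtain ⟨g, hg⟩ := exists_conj_mem S (x := t) (k := 1) (by rw [pow_one, ← ht, pow_orderOf_eq_one])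
  set u₀ := g * t * g⁻¹
  have hu₀ : orderOf u₀ = 2 := by rw [orderOf_conjugate t g, ht]
  have hu₀f : (fixedBy Ω u₀).ncard = f := by rw [fix_conj, Set.ncard_smul_set, htf]
  -- the central involution with a given fixed set
  have key : ∀ u ∈ (S : Subgroup G), orderOf u = 2 → (fixedBy Ω u).ncard = f →
      ∀ T : Subgroup G, T = (S : Subgroup G) ⊓ stabilizer G (fixedBy Ω u) →
      ∃ z ∈ T, orderOf z = 2 ∧ fixedBy Ω z = fixedBy Ω u ∧ ∀ c ∈ T, Commute c z := by
    intro u hu hu2 huf T hT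
    subst hT
    have hfix : ∀ x : G, x ∈ fixingSubgroup G (fixedBy Ω u) ↔ fixedBy Ω u ⊆ fixedBy Ω x :=
      fun x => mem_fixingSubgroup_iff G
    set N := (S : Subgroup G) ⊓ fixingSubgroup G (fixedBy Ω u)
    obtain ⟨z, hz, hz1, hz2, hzc⟩ := exists_central (p := 2)
      (P := (S : Subgroup G) ⊓ stabilizer G (fixedBy Ω u)) (N := N) (S.isPGroup'.to_le inf_le_left)
      (le_inf inf_le_left fun x hx => by
        rw [mem_stabilizer_iff]
        refine Set.ext fun ω => ⟨?_, fun hω => ⟨ω, hω, (hfix x).1 hx.2 hω⟩⟩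
        rintro ⟨o, ho, rfl⟩
        show x • o ∈ fixedBy Ω u
        rwa [show x • o = o from (hfix x).1 hx.2 ho])
      (fun c hc x hx => ⟨(S : Subgroup G).mul_mem ((S : Subgroup G).mul_mem hc.1 hx.1) ((S : Subgroup G).inv_mem hc.1),
        (hfix _).2 fun ω hω => by
          show (c * x * c⁻¹) • ω = ω
          rw [mul_smul, mul_smul, (hfix x).1 hx.2 (smul_mem_of_stab (inv_mem hc.2) hω), smul_inv_smul]⟩)
      (fun e => by
        have : u ∈ N := ⟨hu, (hfix u).2 subset_rfl⟩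
        rw [e, Subgroup.mem_bot] at this
        rw [this, orderOf_one] at hu2; omega)
    have hzo : orderOf z = 2 := orderOf_two_iff.2 ⟨hz2, hz1⟩
    have hzF := d.no_extra hzo huf ((hfix z).1 hz.2)
    exact ⟨z, ⟨hz.1, by rw [← hzF]; exact stab_of_commute (Commute.refl z)⟩, hzo, hzF, hzc⟩
  by_cases hinv : ∀ u ∈ (S : Subgroup G), orderOf u = 2 → (fixedBy Ω u).ncard = f →
      (S : Subgroup G) ≤ stabilizer G (fixedBy Ω u)
  · by_cases hone : ∀ u ∈ (S : Subgroup G), orderOf u = 2 → (fixedBy Ω u).ncard = f →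
        fixedBy Ω u = fixedBy Ω u₀
    · exact Or.inl ⟨_, hu₀f, hinv u₀ hg hu₀ hu₀f, ⟨u₀, hg, hu₀, rfl⟩, hone⟩
    push Not at hone
    obtain ⟨v, hv, hv2, hvf, hvne⟩ := hone
    obtain ⟨z, hzT, hzo, hzF, hzc⟩ := key u₀ hg hu₀ hu₀f _ rfl
    obtain ⟨z', hzT', hzo', hzF', hzc'⟩ := key v hv hv2 hvf _ rfl
    exact Or.inr ⟨z, hzT.1, z', hzT'.1, hzo, hzo', hzF ▸ hu₀f, hzF' ▸ hvf,
      by rw [hzF, hzF']; exact hvne.symm, fun c hc _ => hzc' c ⟨hc, hinv v hv hv2 hvf hc⟩,
      fun c hc _ => hzc c ⟨hc, hinv u₀ hg hu₀ hu₀f hc⟩⟩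
  push Not at hinv
  obtain ⟨u, hu, hu2, huf, hun⟩ := hinv
  set T := (S : Subgroup G) ⊓ stabilizer G (fixedBy Ω u)
  obtain ⟨z, hzT, hzo, hzF, hzc⟩ := key u hu hu2 huf T rfl
  have hlt : T < (S : Subgroup G) := lt_of_le_of_ne inf_le_left fun e => hun (e ▸ inf_le_right)
  obtain ⟨w, hw, hwT, hwN⟩ := Involutions.exists_mem_normalizer_notMem S.isPGroup' hlt
  have hz' : w * z * w⁻¹ ∈ T := (Subgroup.mem_normalizer_iff.1 hwN z).1 hzT
  refine Or.inr ⟨z, hzT.1, w * z * w⁻¹, hz'.1, hzo, by rw [orderOf_conjugate z w, hzo], hzF ▸ huf,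
    by rw [fix_conj, Set.ncard_smul_set, hzF]; exact huf, ?_, ?_, ?_⟩
  · rw [fix_conj, hzF]
    intro h
    exact hwT ⟨hw, mem_stabilizer_iff.2 h.symm⟩
  · intro c hc hcz
    have hcT : c ∈ T := ⟨hc, hzF ▸ stab_of_commute hcz⟩
    have h := (hzc _ ((Subgroup.mem_normalizer_iff''.1 hwN c).1 hcT)).map (MulAut.conj w).toMonoidHom
    simpa [mul_assoc] using h
  · exact fun c hc h => hzc c ⟨hc, mem_stabilizer_iff.2 (hzF ▸ h)⟩

/-- Two or three points. -/
theorem EvenData.small {f : ℕ} (d : EvenData G Ω f) (h2 : 2 ≤ f) (h3 : f ≤ 3) (S : Sylow 2 G) :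
    (∃ H : Subgroup G, Cfsg.IsStronglyEmbedded H) ∨
      ((∃ n : ℕ, Nonempty ((S : Subgroup G) ≃* DihedralGroup n)) ∨
        Cfsg.IsQuasiDihedral (S : Subgroup G)) := by
  classical
  have : Fact (Nat.Prime 2) := ⟨Nat.prime_two⟩
  rcases d.dichotomy S with ⟨F, hF, hSF, ⟨u, hu, hu2, -⟩, hall⟩ |
    ⟨z, hz, z', hz', hzo, hzo', hzf, hzf', hne, hC, -⟩
  · left
    refine ⟨stabilizer G F, d.data.stab_ne_top (Set.nonempty_of_ncard_ne_zero (by omega)) (by omega),
      ?_, fun g hg => ?_⟩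
    · rw [even_iff_two_dvd, ← hu2, ← Subgroup.orderOf_mk u (hSF hu)]
      exact orderOf_dvd_natCard _
    have hM : ∀ y ∈ stabilizer G F, orderOf y = 2 → fixedBy Ω y = F := by
      intro y hy hy2
      obtain ⟨m, hm, hmy⟩ := exists_conj_mem_of_le S hSF hy (k := 1) (by rw [pow_one, ← hy2, pow_orderOf_eq_one])
      have ho : orderOf (m * y * m⁻¹) = 2 := by rw [orderOf_conjugate y m, hy2]
      have h := hall _ hmy ho (d.card_fix ho (Or.inl h3))
      rw [fix_conj] at h
      rw [← mem_stabilizer_iff.1 (inv_mem hm), ← h, inv_smul_smul]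
    rw [← Nat.not_even_iff_odd, even_iff_two_dvd]
    intro h2'
    obtain ⟨⟨s, hs'⟩, hs⟩ := exists_prime_orderOf_dvd_card'
      (G := ↥(stabilizer G F ⊓ (stabilizer G F).map (MulAut.conj g).toMonoidHom)) 2 h2'
    rw [Subgroup.orderOf_mk] at hs
    obtain ⟨hsF, w, hw, hws⟩ := Subgroup.mem_inf.1 hs'
    have hws' : g * w * g⁻¹ = s := hws
    refine hg (mem_stabilizer_iff.2 ?_)
    calc g • F = fixedBy Ω (g * w * g⁻¹) := by
          rw [fix_conj, hM w hw (by rw [← orderOf_conjugate w g, hws', hs])]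
      _ = F := by rw [hws', hM s hsF hs]
  right
  -- the centralizer of `z` in `S` has order at most four
  have hzz' : Commute z z' := hC z hz (Commute.refl z)
  obtain ⟨a, ha, haz'⟩ : ∃ a ∈ fixedBy Ω z, z' • a ≠ a := by
    by_contra h
    push Not at h
    exact hne (d.no_extra hzo' hzf h).symm
  have hz'F : z' ∈ stabilizer G (fixedBy Ω z) := stab_of_commute hzz'.symm
  have hmod : (fixedBy Ω z).ncard % 2 = (fixedBy Ω z ∩ fixedBy Ω z').ncard % 2 :=
    ncard_modEq (p := 2) (k := 1) (by rw [pow_one, ← hzo', pow_orderOf_eq_one]) hz'F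
  have hinter := Set.ncard_inter_add_ncard_sdiff_eq_ncard (fixedBy Ω z) (fixedBy Ω z') (Set.toFinite _)
  have hinter' := Set.ncard_inter_add_ncard_sdiff_eq_ncard (fixedBy Ω z') (fixedBy Ω z) (Set.toFinite _)
  rw [Set.inter_comm] at hinter'
  have hpair : 2 ≤ (fixedBy Ω z \ fixedBy Ω z').ncard := by
    have hsub : ({a, z' • a} : Set Ω) ⊆ fixedBy Ω z \ fixedBy Ω z' := by
      rintro _ (rfl | rfl)
      · exact ⟨ha, haz'⟩
      · exact ⟨smul_mem_of_stab hz'F ha, fun h => haz' (smul_left_cancel z' h)⟩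
    have := Set.ncard_le_ncard hsub (Set.toFinite _)
    rwa [Set.ncard_pair haz'.symm] at this
  have hO : (fixedBy Ω z \ fixedBy Ω z').ncard = 2 := by omega
  have hO' : (fixedBy Ω z' \ fixedBy Ω z).ncard = 2 := by omega
  have hI : (fixedBy Ω z ∩ fixedBy Ω z').ncard ≤ 1 := by omega
  obtain ⟨b, hb⟩ := Set.nonempty_of_ncard_ne_zero (s := fixedBy Ω z' \ fixedBy Ω z) (by omega)
  set u : (S : Subgroup G) := ⟨z, hz⟩
  have hu : orderOf u = 2 := by rw [Subgroup.orderOf_mk, hzo]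
  set C := Subgroup.centralizer ({u} : Set (S : Subgroup G))
  have hcz : ∀ c : C, Commute ((c : (S : Subgroup G)) : G) z := fun c =>
    congrArg Subtype.val (Subgroup.mem_centralizer_singleton_iff.1 c.2)
  have hpres : ∀ c : G, Commute c z → Commute c z' → ∀ ω,
      (ω ∈ fixedBy Ω z \ fixedBy Ω z' → c • ω ∈ fixedBy Ω z \ fixedBy Ω z') ∧
      (ω ∈ fixedBy Ω z' \ fixedBy Ω z → c • ω ∈ fixedBy Ω z' \ fixedBy Ω z) := by
    intro c h1 h2 ω
    refine ⟨fun hω => ⟨smul_mem_of_commute h1 hω.1, fun h => hω.2 ?_⟩,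
      fun hω => ⟨smul_mem_of_commute h2 hω.1, fun h => hω.2 ?_⟩⟩
    · simpa using smul_mem_of_commute h2.inv_left h
    · simpa using smul_mem_of_commute h1.inv_left h
  let φ : C → (fixedBy Ω z \ fixedBy Ω z' : Set Ω) × (fixedBy Ω z' \ fixedBy Ω z : Set Ω) := fun c =>
    (⟨((c : (S : Subgroup G)) : G) • a, (hpres _ (hcz c) (hC _ (c : (S : Subgroup G)).2 (hcz c)) a).1 ⟨ha, haz'⟩⟩,
      ⟨((c : (S : Subgroup G)) : G) • b, (hpres _ (hcz c) (hC _ (c : (S : Subgroup G)).2 (hcz c)) b).2 hb⟩)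
  have hφ : Function.Injective φ := by
    intro c c' h
    have h1 : ((c : (S : Subgroup G)) : G) • a = ((c' : (S : Subgroup G)) : G) • a :=
      congrArg (fun p => (p.1 : Ω)) h
    have h2 : ((c : (S : Subgroup G)) : G) • b = ((c' : (S : Subgroup G)) : G) • b :=
      congrArg (fun p => (p.2 : Ω)) h
    set q : G := ((c' : (S : Subgroup G)) : G)⁻¹ * ((c : (S : Subgroup G)) : G)
    have hqa : q • a = a := by rw [mul_smul, h1, inv_smul_smul]
    have hqb : q • b = b := by rw [mul_smul, h2, inv_smul_smul]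
    have hqS : q ∈ (S : Subgroup G) := mul_mem (inv_mem (c' : (S : Subgroup G)).2) (c : (S : Subgroup G)).2
    have hqz : Commute q z := (hcz c').inv_left.mul_left (hcz c)
    have hqz' := hC q hqS hqz
    have hsub : fixedBy Ω z ⊆ fixedBy Ω q := by
      intro ω hω
      by_cases hωz : ω ∈ fixedBy Ω z'
      · exact Set.ncard_le_one (Set.toFinite _) |>.1 hI _
          ⟨smul_mem_of_commute hqz hω, smul_mem_of_commute hqz' hωz⟩ _ ⟨hω, hωz⟩
      · exact fix_all_of_two (c := q) hO (fun o ho => (hpres q hqz hqz' o).1 ho) ⟨ha, haz'⟩ hqa ⟨hω, hωz⟩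
    by_contra hcc
    have hq1 : q ≠ 1 := fun e => hcc (Subtype.ext (Subtype.ext (inv_mul_eq_one.1 e).symm))
    obtain ⟨k, hk⟩ := S.isPGroup' ⟨q, hqS⟩
    obtain ⟨j, hj⟩ := exists_involution_pow hq1 (k := k) (by simpa using congrArg Subtype.val hk)
    have := d.no_extra hj hzf fun ω hω => pow_smul_eq (hsub hω) j
    exact hb.2 (this ▸ (pow_smul_eq hqb j : b ∈ fixedBy Ω (q ^ j)))
  have hC4 : Nat.card C ≤ 4 := by
    refine (Nat.card_le_card_of_injective φ hφ).trans ?_
    rw [Nat.card_prod, Nat.card_coe_set_eq, Nat.card_coe_set_eq, hO, hO']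
  set v : (S : Subgroup G) := ⟨z', hz'⟩
  have hvo : orderOf v = 2 := by rw [Subgroup.orderOf_mk, hzo']
  have huv : v ≠ u := fun e => hne (congrArg (fun x : (S : Subgroup G) => fixedBy Ω (x : G)) e.symm)
  refine TwoGroups.FixityTwo.dihedral_of_small_centralizer S.isPGroup' hu hC4 ?_ fun _ => ⟨v, hvo, huv⟩
  by_contra hlt
  obtain ⟨i, hi⟩ := IsPGroup.iff_card.1 S.isPGroup'
  have h1 : i ≤ 1 := by
    by_contra h
    have : 2 ^ 2 ≤ 2 ^ i := Nat.pow_le_pow_right two_pos (by omega)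
    omega
  have hle : Nat.card (S : Subgroup G) ≤ 2 := by
    have : 2 ^ i ≤ 2 ^ 1 := Nat.pow_le_pow_right two_pos h1
    omega
  have h3 : Nat.card (Fin 3) ≤ Nat.card (S : Subgroup G) :=
    Nat.card_le_card_of_injective ![1, u, v] (by
      have hu1 : u ≠ 1 := fun e => by rw [e, orderOf_one] at hu; omega
      have hv1 : v ≠ 1 := fun e => by rw [e, orderOf_one] at hvo; omega
      intro p q hpq
      fin_cases p <;> fin_cases q <;> simp [hu1, hv1, huv, hu1.symm, hv1.symm, huv.symm] at hpq ⊢)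
  rw [Nat.card_fin] at h3
  omega

/-- Four points, assuming the strong embedding criterion. -/
theorem EvenData.four (d : EvenData G Ω 4) (S : Sylow 2 G)
    (hcrit : ∀ T : Subgroup G, T ≠ ⊥ → Cfsg.IsStronglyClosed T (S : Subgroup G) →
      (⨆ t : {t : G // t ∈ T ∧ orderOf t = 2}, Subgroup.centralizer ({(t : G)} : Set G)) ≠ ⊤ →
      ∃ H : Subgroup G, Cfsg.IsStronglyEmbedded H) :
    (∃ H : Subgroup G, Cfsg.IsStronglyEmbedded H) ∨ Cfsg.SectionalPRankLE 2 4 G := by
  classical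
  have : Fact (Nat.Prime 2) := ⟨Nat.prime_two⟩
  rcases d.dichotomy S with ⟨F, hF, hSF, ⟨u, hu, hu2, huF⟩, hall⟩ |
    ⟨z, hz, z', hz', hzo, hzo', hzf, hzf', hne, hC, hstab⟩
  · left
    have hfix : ∀ x : G, x ∈ fixingSubgroup G F ↔ F ⊆ fixedBy Ω x := fun x => mem_fixingSubgroup_iff G
    refine hcrit ((S : Subgroup G) ⊓ fixingSubgroup G F) (fun e => ?_) ⟨inf_le_left, ?_⟩ ?_
    · have : u ∈ (S : Subgroup G) ⊓ fixingSubgroup G F := ⟨hu, (hfix u).2 huF.ge⟩
      rw [e, Subgroup.mem_bot] at this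
      rw [this, orderOf_one] at hu2; omega
    · intro x hx g hgS
      refine ⟨hgS, (hfix _).2 ?_⟩
      by_cases hx1 : x = 1
      · intro ω _
        show (g * x * g⁻¹) • ω = ω
        rw [hx1, mul_one, mul_inv_cancel, one_smul]
      obtain ⟨k, hk⟩ := S.isPGroup' ⟨g * x * g⁻¹, hgS⟩
      have hy1 : g * x * g⁻¹ ≠ 1 := fun e => hx1 (conj_eq_one_iff.1 e)
      obtain ⟨j, hj⟩ := exists_involution_pow hy1 (k := k) (by simpa using congrArg Subtype.val hk)
      have hsub : g • F ⊆ fixedBy Ω (g * x * g⁻¹) := by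
        rw [fix_conj]
        exact Set.smul_set_mono ((hfix x).1 hx.2)
      have hsub' : g • F ⊆ fixedBy Ω ((g * x * g⁻¹) ^ j) := fun ω hω => pow_smul_eq (hsub hω) j
      have hgF : (g • F).ncard = 4 := by rw [Set.ncard_smul_set, hF]
      have heq : fixedBy Ω ((g * x * g⁻¹) ^ j) = g • F :=
        (Set.eq_of_subset_of_ncard_le hsub' (hgF ▸ d.max _ hj) (Set.toFinite _)).symm
      have := hall _ ((S : Subgroup G).pow_mem hgS j) hj (by rw [heq, hgF])
      rw [← this, heq]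
      exact hsub
    · intro e
      refine d.data.stab_ne_top (F := F) (Set.nonempty_of_ncard_ne_zero (by omega)) hF.le (top_le_iff.1 ?_)
      rw [← e]
      refine iSup_le fun t c hc => ?_
      obtain ⟨t, ⟨htS, htF⟩, ht2⟩ := t
      have := d.no_extra ht2 (u := u) (huF.symm ▸ hF) (huF.symm ▸ (hfix t).1 htF)
      rw [huF] at this
      exact this ▸ stab_of_commute (Subgroup.mem_centralizer_singleton_iff.1 hc)
  right
  refine HaradaFour.sectional_of_sylow 4 S (MacWilliams.sectionalPRankLE_two_of_sq_index 4 ?_)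
  have hxd : XData (S : Subgroup G) Ω := by
    refine ⟨S.isPGroup', fun x hx => ?_, fun x hx hx1 hne' => ?_⟩
    · exact d.data.fix (x : G) fun e => hx (Subtype.ext e)
    · exact d.card_fix (orderOf_two_iff.2 ⟨congrArg Subtype.val hx, fun e => hx1 (Subtype.ext e)⟩)
        (Or.inr hne')
  have hgood : ∀ (w : G) (hw : w ∈ (S : Subgroup G)), orderOf w = 2 → (fixedBy Ω w).ncard = 4 →
      Good Ω (⟨w, hw⟩ : (S : Subgroup G)) := fun w hw ho hf =>
    ⟨Subtype.ext (orderOf_two_iff.1 ho).1, fun e => (orderOf_two_iff.1 ho).2 (congrArg Subtype.val e),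
      Set.nonempty_of_ncard_ne_zero (show (fixedBy Ω w).ncard ≠ 0 by omega)⟩
  intro H N hNH hsq
  refine hxd.sqBound (hgood z hz hzo hzf) (hgood z' hz' hzo' hzf') hne
    (fun c hc => Subtype.ext (hC c c.2 (congrArg Subtype.val hc)))
    (fun c hc => Subtype.ext (hstab c c.2 hc)) H N hNH hsq

end CfsgLib.FixityFour
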