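import Cfsg.Agent.Lib.FixityFour.OddPart
import Cfsg.Agent.Lib.FixityFour.EvenPart
import Cfsg.Agent.Lib.InvChar.SmallSolvable

/-!
Finite simple groups acting with fixity four.
-/

set_option autoImplicit false
set_option linter.unusedSectionVars false

namespace CfsgLib.FixityFour

open MulAction

universe u v

variable {G : Type u} [Group G] [Finite G] {Ω : Type v} [MulAction G Ω] [Finite Ω]

theorem four_lt_card [hs : IsSimpleGroup G] (hna : ¬ IsMulCommutative G) [FaithfulSMul G Ω] :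
    4 < Nat.card Ω := by
  classical
  by_contra h
  cases nonempty_fintype Ω
  obtain ⟨e⟩ : Nonempty (Ω ↪ Fin 4) :=
    Function.Embedding.nonempty_of_card_le (by rw [Fintype.card_fin, ← Nat.card_eq_fintype_card]; omega)
  have : Group.IsSolvable (Equiv.Perm (Fin 4)) := InvCharSmall.isSolvable_perm_four
  have hsol : Group.IsSolvable G := Group.isSolvable_of_isSolvable_injective
    (f := (Equiv.Perm.viaEmbeddingHom e).comp (MulAction.toPermHom G Ω))
    ((Equiv.Perm.viaEmbeddingHom_injective e).comp MulAction.toPerm_injective)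
  exact hna ⟨⟨IsSimpleGroup.comm_iff_isSolvable.2 hsol⟩⟩

/-- The case division, given the strong embedding criterion for strongly closed 2-subgroups. -/
theorem fixity_four_cases [IsSimpleGroup G] (hna : ¬ IsMulCommutative G) [FaithfulSMul G Ω]
    (htrans : IsPretransitive G Ω)
    (hfix : ∀ g : G, g ≠ 1 → Nat.card (fixedBy Ω g) ≤ 4)
    (P : Sylow 3 G) (S : Sylow 2 G)
    (hcrit : ∀ T : Subgroup G, T ≠ ⊥ → Cfsg.IsStronglyClosed T (S : Subgroup G) →
      (⨆ t : {t : G // t ∈ T ∧ orderOf t = 2}, Subgroup.centralizer ({(t : G)} : Set G)) ≠ ⊤ →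
      ∃ H : Subgroup G, Cfsg.IsStronglyEmbedded H)
    (f : ℕ) (hf : ∀ g : G, orderOf g = 2 → Nat.card (fixedBy Ω g) ≤ f)
    (hf' : ∃ g : G, orderOf g = 2 ∧ Nat.card (fixedBy Ω g) = f) (a : Ω) :
    (1 ≤ f ∧ ∃ H : Subgroup G, Cfsg.IsStronglyEmbedded H) ∨
    (1 ≤ f ∧ f ≤ 3 ∧ ((∃ n : ℕ, Nonempty ((S : Subgroup G) ≃* DihedralGroup n)) ∨ Cfsg.IsQuasiDihedral (S : Subgroup G))) ∨
    (f = 4 ∧ Cfsg.SectionalPRankLE 2 4 G) ∨
    (Odd (Nat.card (stabilizer G a)) ∧ 3 ∣ Nat.card (stabilizer G a) ∧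
      ((∃ H : Subgroup G, H ≠ ⊤ ∧ 3 ∣ Nat.card H ∧ ∀ g : G, g ∉ H → ¬ 3 ∣ Nat.card ↥(H ⊓ H.map (MulAut.conj g).toMonoidHom)) ∨
       (Nat.card P = 9 ∧ ∀ x ∈ (P : Subgroup G), x ^ 3 = 1))) ∨
    (Nat.card (stabilizer G a)).Coprime 6 := by
  have d : Data G Ω :=
    ⟨inferInstance, hna, htrans, inferInstance, fun g hg => Nat.card_coe_set_eq (fixedBy Ω g) ▸ hfix g hg,
      four_lt_card hna⟩
  rcases Nat.even_or_odd (Nat.card (stabilizer G a)) with heven | hodd
  · have : Fact (Nat.Prime 2) := ⟨Nat.prime_two⟩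
    obtain ⟨⟨t, hta⟩, ht⟩ := exists_prime_orderOf_dvd_card' (G := stabilizer G a) 2 heven.two_dvd
    rw [Subgroup.orderOf_mk] at ht
    have he : EvenData G Ω f := by
      refine ⟨d, fun g hg => Nat.card_coe_set_eq (fixedBy Ω g) ▸ hf g hg, ?_, ?_⟩
      · obtain ⟨g, hg, hgf⟩ := hf'
        exact ⟨g, hg, by rw [← Nat.card_coe_set_eq]; exact hgf⟩
      · refine le_trans ?_ (hf t ht)
        rw [Nat.card_coe_set_eq]
        exact (Set.ncard_pos (Set.toFinite _)).2 ⟨a, hta⟩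
    have h4 := he.le_four
    have h1 := he.pos
    rcases (show f = 1 ∨ (2 ≤ f ∧ f ≤ 3) ∨ f = 4 by omega) with rfl | ⟨h2, h3⟩ | rfl
    · exact Or.inl ⟨le_rfl, he.stronglyEmbedded_one a⟩
    · rcases he.small h2 h3 S with h | h
      · exact Or.inl ⟨h1, h⟩
      · exact Or.inr (Or.inl ⟨h1, h3, h⟩)
    · rcases he.four S hcrit with h | h
      · exact Or.inl ⟨h1, h⟩
      · exact Or.inr (Or.inr (Or.inl ⟨rfl, h⟩))
  by_cases h3 : 3 ∣ Nat.card (stabilizer G a)
  · have ho : OddData G Ω := by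
      refine ⟨d, fun g k b hgk hgb => ?_⟩
      obtain ⟨c, hc⟩ := htrans.exists_smul_eq b a
      have hmem : c * g * c⁻¹ ∈ stabilizer G a := by
        show (c * g * c⁻¹) • a = a
        rw [mul_smul, mul_smul, show c⁻¹ • a = b by rw [← hc, inv_smul_smul], hgb, hc]
      have h1 := Subgroup.orderOf_dvd_natCard _ hmem
      have h2 : orderOf (c * g * c⁻¹) ∣ 2 ^ k :=
        orderOf_dvd_of_pow_eq_one (by rw [conj_pow, hgk, mul_one, mul_inv_cancel])
      have hone := Nat.eq_one_of_dvd_coprimes (Nat.Coprime.pow_right k hodd.coprime_two_right) h1 h2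
      exact conj_eq_one_iff.1 (orderOf_eq_one_iff.1 hone)
    exact Or.inr (Or.inr (Or.inr (Or.inl ⟨hodd, h3, ho.main a h3 P⟩)))
  · refine Or.inr (Or.inr (Or.inr (Or.inr ?_)))
    rw [show (6 : ℕ) = 2 * 3 by norm_num]
    exact Nat.Coprime.mul_right hodd.coprime_two_right ((Nat.prime_three.coprime_iff_not_dvd).2 h3).symm

end CfsgLib.FixityFour
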