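import Cfsg.Agent.Lib.FixityFour.Base

/-!
Elements of order three when the point stabilizers have odd order.
-/

set_option autoImplicit false
set_option linter.unusedSectionVars false

namespace CfsgLib.FixityFour

open MulAction
open scoped Pointwise

variable {G : Type*} [Group G] {Ω : Type*} [MulAction G Ω]

variable (G Ω) in
/-- The standing hypotheses with point stabilizers of odd order. -/
structure OddData : Prop where
  data : Data G Ω
  free : ∀ (g : G) (k : ℕ) (a : Ω), g ^ 2 ^ k = 1 → g • a = a → g = 1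

/-- An element of order three fixing at least two points. -/
def Big (Ω : Type*) [MulAction G Ω] (z : G) : Prop :=
  z ^ 3 = 1 ∧ z ≠ 1 ∧ 2 ≤ (fixedBy Ω z).ncard

/-- Some power of a nontrivial 3-element has order three. -/
theorem exists_order_three {q : G} (hq : q ≠ 1) : ∀ {k : ℕ}, q ^ 3 ^ k = 1 →
    ∃ j : ℕ, (q ^ j) ^ 3 = 1 ∧ q ^ j ≠ 1
  | 0, h => absurd (by simpa using h) hq
  | k + 1, h => by
    by_cases h' : q ^ 3 ^ k = 1
    · exact exists_order_three hq h'
    · exact ⟨3 ^ k, by rw [← pow_mul, ← pow_succ, h], h'⟩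

/-- An odd power is a 2-element. -/
theorem exists_odd_pow [Finite G] (g : G) : ∃ b : ℕ, Odd b ∧ ∃ k : ℕ, (g ^ b) ^ 2 ^ k = 1 := by
  obtain ⟨a, b, hb, hab⟩ := Nat.exists_eq_two_pow_mul_odd (n := orderOf g) (orderOf_pos g).ne'
  exact ⟨b, hb, a, by rw [← pow_mul, mul_comm, ← hab, pow_orderOf_eq_one]⟩

/-- Odd powers of an inverting element invert. -/
theorem odd_pow_inverts {g x : G} (h : g * x * g⁻¹ = x⁻¹) {b : ℕ} (hb : Odd b) :
    g ^ b * x * (g ^ b)⁻¹ = x⁻¹ := by
  obtain ⟨j, rfl⟩ := hb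
  have h' : g * x⁻¹ * g⁻¹ = x := by
    have := congrArg (·⁻¹) h
    simpa [mul_inv_rev, mul_assoc] using this
  have h2 : Commute (g ^ 2) x := by
    refine mul_inv_eq_iff_eq_mul.1 ?_
    calc g ^ 2 * x * (g ^ 2)⁻¹ = g * (g * x * g⁻¹) * g⁻¹ := by rw [pow_two]; group
      _ = x := by rw [h, h']
  rw [pow_succ', pow_mul, mul_inv_rev]
  calc g * (g ^ 2) ^ j * x * (((g ^ 2) ^ j)⁻¹ * g⁻¹)
      = g * ((g ^ 2) ^ j * x * ((g ^ 2) ^ j)⁻¹) * g⁻¹ := by group
    _ = x⁻¹ := by rw [(h2.pow_left j).eq, mul_inv_cancel_right, h]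

variable [Finite G] [Finite Ω]

theorem OddData.card_cases (d : OddData G Ω) {y : G} (hy : y ^ 3 = 1) (hy1 : y ≠ 1) :
    (fixedBy Ω y).ncard ≤ 4 ∧ Nat.card Ω % 3 = (fixedBy Ω y).ncard % 3 := by
  refine ⟨d.data.fix y hy1, ?_⟩
  have : Fact (Nat.Prime 3) := ⟨Nat.prime_three⟩
  have h := ncard_modEq (p := 3) (g := y) (k := 1) (by simpa using hy) (F := (Set.univ : Set Ω))
    (mem_stabilizer_iff.2 Set.smul_set_univ)
  rwa [Set.ncard_univ, Set.univ_inter] at h

theorem OddData.big_card (d : OddData G Ω) {y z : G} (hy : Big Ω y) (hz : Big Ω z) :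
    (fixedBy Ω y).ncard = (fixedBy Ω z).ncard := by
  have h1 := d.card_cases hy.1 hy.2.1
  have h2 := d.card_cases hz.1 hz.2.1
  have h3 := hy.2.2
  have h4 := hz.2.2
  omega

theorem OddData.fix_eq_of_subset (d : OddData G Ω) {z y : G} (hz : Big Ω z) (hy : y ^ 3 = 1)
    (hy1 : y ≠ 1) (h : fixedBy Ω z ⊆ fixedBy Ω y) : fixedBy Ω y = fixedBy Ω z := by
  refine (Set.eq_of_subset_of_ncard_le h ?_ (Set.toFinite _)).symm
  have hle := Set.ncard_le_ncard h (Set.toFinite _)
  have h1 := d.card_cases hy hy1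
  have h2 := d.card_cases hz.1 hz.2.1
  have := hz.2.2
  omega

/-- A 3-element fixing the fixed points of a big element and one further point is trivial. -/
theorem OddData.eq_one_of_extra (d : OddData G Ω) {z q : G} (hz : Big Ω z) {k : ℕ}
    (hq : q ^ 3 ^ k = 1) (hF : fixedBy Ω z ⊆ fixedBy Ω q) {b : Ω} (hb : b ∉ fixedBy Ω z)
    (hqb : q • b = b) : q = 1 := by
  by_contra h
  obtain ⟨j, hj, hj1⟩ := exists_order_three h hq
  have h' := d.fix_eq_of_subset hz hj hj1 fun a ha => pow_smul_eq (hF ha) j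
  exact hb (h' ▸ (pow_smul_eq hqb j : b ∈ fixedBy Ω (q ^ j)))

/-- An element of order three moving a point of the fixed set of a big element. -/
theorem OddData.inter_card (d : OddData G Ω) {z y : G} (hz : Big Ω z) (hy : y ^ 3 = 1)
    (hyF : y ∈ stabilizer G (fixedBy Ω z)) {a : Ω} (ha : a ∈ fixedBy Ω z) (hya : y • a ≠ a) :
    3 ≤ (fixedBy Ω z).ncard ∧
      (fixedBy Ω z ∩ fixedBy Ω y).ncard + 3 = (fixedBy Ω z).ncard ∧
      fixedBy Ω z \ fixedBy Ω y = {a, y • a, y • y • a} ∧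
      (fixedBy Ω z \ fixedBy Ω y).ncard = 3 := by
  have hy3 : y • y • y • a = a := by
    rw [smul_smul, smul_smul, show y * y * y = y ^ 3 by rw [pow_succ, pow_two], hy, one_smul]
  have h1 : y • y • a ≠ y • a := fun e => hya (smul_left_cancel y e)
  have h2 : y • y • a ≠ a := fun e => hya (by
    have := congrArg (y • ·) e
    rw [hy3] at this
    exact this.symm)
  have hsub : {a, y • a, y • y • a} ⊆ fixedBy Ω z \ fixedBy Ω y := by
    rintro _ (rfl | rfl | rfl)
    · exact ⟨ha, hya⟩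
    · exact ⟨smul_mem_of_stab hyF ha, h1⟩
    · exact ⟨smul_mem_of_stab hyF (smul_mem_of_stab hyF ha), fun e => h2 (e.symm.trans hy3)⟩
  have h3 : ({a, y • a, y • y • a} : Set Ω).ncard = 3 :=
    Set.ncard_eq_three.2 ⟨a, y • a, y • y • a, hya.symm, h2.symm, h1.symm, rfl⟩
  have hle := Set.ncard_le_ncard hsub (Set.toFinite _)
  have hadd := Set.ncard_inter_add_ncard_sdiff_eq_ncard (fixedBy Ω z) (fixedBy Ω y) (Set.toFinite _)
  have : Fact (Nat.Prime 3) := ⟨Nat.prime_three⟩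
  have hmod : (fixedBy Ω z).ncard % 3 = (fixedBy Ω z ∩ fixedBy Ω y).ncard % 3 :=
    ncard_modEq (p := 3) (g := y) (k := 1) (by simpa using hy) hyF
  have h4 := d.data.fix z hz.2.1
  rw [h3] at hle
  refine ⟨by omega, by omega, (Set.eq_of_subset_of_ncard_le hsub (by omega) (Set.toFinite _)).symm,
    by omega⟩

/-- A 2-element respecting the pattern of a moving element of order three is trivial. -/
theorem OddData.eq_one_of_respects (d : OddData G Ω) {z y : G} (hz : Big Ω z) (hy : y ^ 3 = 1)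
    (hyF : y ∈ stabilizer G (fixedBy Ω z)) {a : Ω} (ha : a ∈ fixedBy Ω z) (hya : y • a ≠ a)
    {h : G} {k : ℕ} (hh : h ^ 2 ^ k = 1) (hhF : h ∈ stabilizer G (fixedBy Ω z))
    (hres : ∀ ω ∈ fixedBy Ω z, y • ω = ω → y • h • ω = h • ω) : h = 1 := by
  obtain ⟨h1, h2, -, -⟩ := d.inter_card hz hy hyF ha hya
  have h4 := d.data.fix z hz.2.1
  by_cases h0 : fixedBy Ω z ∩ fixedBy Ω y = ∅
  · rw [h0, Set.ncard_empty] at h2
    have hmod : (fixedBy Ω z).ncard % 2 = (fixedBy Ω z ∩ fixedBy Ω h).ncard % 2 :=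
      ncard_modEq (p := 2) hh hhF
    obtain ⟨ω, hω⟩ := Set.nonempty_of_ncard_ne_zero (s := fixedBy Ω z ∩ fixedBy Ω h) (by omega)
    exact d.free h k ω hh hω.2
  · obtain ⟨ω, hω⟩ := Set.nonempty_iff_ne_empty.2 h0
    refine d.free h k ω hh ?_
    have hω' : h • ω ∈ fixedBy Ω z ∩ fixedBy Ω y :=
      ⟨smul_mem_of_stab hhF hω.1, hres ω hω.1 hω.2⟩
    exact Set.ncard_le_one (Set.toFinite _) |>.1 (by omega) _ hω' _ hω

/-- Another big fixed set has three points outside. -/
theorem OddData.outside (d : OddData G Ω) {z y : G} (hz : Big Ω z) (hy : Big Ω y)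
    (hyF : y ∈ stabilizer G (fixedBy Ω z)) {a : Ω} (ha : a ∈ fixedBy Ω z) (hya : y • a ≠ a) :
    (fixedBy Ω y \ fixedBy Ω z).ncard = 3 := by
  obtain ⟨-, h2, -, -⟩ := d.inter_card hz hy.1 hyF ha hya
  have h := Set.ncard_inter_add_ncard_sdiff_eq_ncard (fixedBy Ω y) (fixedBy Ω z) (Set.toFinite _)
  rw [Set.inter_comm] at h
  have := d.big_card hy hz
  omega

/-- Centralizing two big elements with different fixed sets. -/
theorem OddData.card_le_nine (d : OddData G Ω) {z y : G} (hz : Big Ω z) (hy : Big Ω y)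
    (hzy : Commute z y) {a : Ω} (ha : a ∈ fixedBy Ω z) (hya : y • a ≠ a) (X : Subgroup G)
    (hX : IsPGroup 3 X) (hXz : ∀ c ∈ X, Commute c z) (hXy : ∀ c ∈ X, Commute c y) :
    Nat.card X ≤ 9 := by
  have hyF : y ∈ stabilizer G (fixedBy Ω z) := stab_of_commute hzy.symm
  obtain ⟨-, hI, hO, hO3⟩ := d.inter_card hz hy.1 hyF ha hya
  have hO' := d.outside hz hy hyF ha hya
  have h4 := d.data.fix z hz.2.1
  obtain ⟨b, hb⟩ := Set.nonempty_of_ncard_ne_zero (s := fixedBy Ω y \ fixedBy Ω z) (by omega)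
  let f : X → (fixedBy Ω z \ fixedBy Ω y : Set Ω) × (fixedBy Ω y \ fixedBy Ω z : Set Ω) := fun c =>
    (⟨(c : G) • a, smul_mem_of_commute (hXz c c.2) ha, fun e => hya (by
        have e' : y • (c : G) • a = (c : G) • a := e
        rw [smul_smul, ← (hXy c c.2).eq, mul_smul] at e'
        exact smul_left_cancel _ e')⟩,
      ⟨(c : G) • b, smul_mem_of_commute (hXy c c.2) hb.1, fun e => hb.2 (by
        have e' : z • (c : G) • b = (c : G) • b := e
        rw [smul_smul, ← (hXz c c.2).eq, mul_smul] at e'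
        exact smul_left_cancel _ e')⟩)
  have hf : Function.Injective f := by
    intro c c' h
    have h1 : (c : G) • a = (c' : G) • a := congrArg (fun p => ((p.1 : Ω))) h
    have h2 : (c : G) • b = (c' : G) • b := congrArg (fun p => ((p.2 : Ω))) h
    set q : G := ((c'⁻¹ * c : X) : G) with hq
    have hqa : q • a = a := by
      rw [hq, Subgroup.coe_mul, Subgroup.coe_inv, mul_smul, h1, inv_smul_smul]
    have hqb : q • b = b := by
      rw [hq, Subgroup.coe_mul, Subgroup.coe_inv, mul_smul, h2, inv_smul_smul]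
    have hqy : Commute q y := hXy _ (c'⁻¹ * c).2
    have hqz : Commute q z := hXz _ (c'⁻¹ * c).2
    have hqy' : ∀ ω : Ω, q • y • ω = y • q • ω := fun ω => by rw [smul_smul, hqy.eq, mul_smul]
    have hF : fixedBy Ω z ⊆ fixedBy Ω q := by
      intro ω hω
      by_cases hyω : y • ω = ω
      · exact Set.ncard_le_one (Set.toFinite _) |>.1
          (show (fixedBy Ω z ∩ fixedBy Ω y).ncard ≤ 1 by omega) _
          ⟨smul_mem_of_commute hqz hω, smul_mem_of_commute hqy hyω⟩ _ ⟨hω, hyω⟩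
      · have : ω ∈ fixedBy Ω z \ fixedBy Ω y := ⟨hω, hyω⟩
        rw [hO] at this
        rcases this with rfl | rfl | rfl
        · exact hqa
        · show q • y • a = y • a
          rw [hqy', hqa]
        · show q • y • y • a = y • y • a
          rw [hqy', hqy', hqa]
    obtain ⟨k, hk⟩ := hX (c'⁻¹ * c)
    have h1' := d.eq_one_of_extra hz (q := q) (k := k)
      (by rw [hq, ← Subgroup.coe_pow, hk]; rfl) hF hb.2 hqb
    exact (inv_mul_eq_one.1 (Subtype.ext (show q = ((1 : X) : G) from h1'))).symm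
  refine (Nat.card_le_card_of_injective f hf).trans ?_
  rw [Nat.card_prod, Nat.card_coe_set_eq, Nat.card_coe_set_eq, hO3, hO']

/-- A subgroup of order at most nine containing two independent elements of order three. -/
theorem mem_nine {z y : G} (hz : z ^ 3 = 1) (hz1 : z ≠ 1) (hy : y ^ 3 = 1)
    (_hzy : Commute z y) (hyz : y ∉ Subgroup.zpowers z) {X : Subgroup G} (hzX : z ∈ X) (hyX : y ∈ X)
    (hX : Nat.card X ≤ 9) : Nat.card X = 9 ∧ ∀ x ∈ X, ∃ i j : ℕ, i < 3 ∧ j < 3 ∧ x = z ^ i * y ^ j := by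
  have : Fact (Nat.Prime 3) := ⟨Nat.prime_three⟩
  have hy1 : y ≠ 1 := fun e => hyz (e ▸ one_mem _)
  have hoz : orderOf z = 3 := orderOf_eq_prime hz hz1
  have hoy : orderOf y = 3 := orderOf_eq_prime hy hy1
  let f : Fin 3 × Fin 3 → X := fun p =>
    ⟨z ^ (p.1 : ℕ) * y ^ (p.2 : ℕ), mul_mem (pow_mem hzX _) (pow_mem hyX _)⟩
  have hf : Function.Injective f := by
    intro p q h
    have h' : z ^ (p.1 : ℕ) * y ^ (p.2 : ℕ) = z ^ (q.1 : ℕ) * y ^ (q.2 : ℕ) := congrArg Subtype.val h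
    have hdis : Disjoint (Subgroup.zpowers z) (Subgroup.zpowers y) := by
      rw [disjoint_iff, Subgroup.eq_bot_iff_forall]
      intro x hx
      by_contra hx1
      have hcard : Nat.card (Subgroup.zpowers y) = 3 := by rw [Nat.card_zpowers, hoy]
      have htop := Subgroup.eq_of_le_of_card_ge (inf_le_right : Subgroup.zpowers z ⊓ _ ≤ _) (by
        have h2 := Subgroup.card_dvd_of_le (inf_le_right : Subgroup.zpowers z ⊓ Subgroup.zpowers y ≤ _)
        rw [hcard] at h2 ⊢
        rcases (Nat.dvd_prime Nat.prime_three).1 h2 with e | e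
        · exact absurd (Subgroup.mem_bot.1 (Subgroup.card_eq_one.1 e ▸ hx)) hx1
        · omega)
      exact hyz ((htop ▸ Subgroup.mem_zpowers y : y ∈ Subgroup.zpowers z ⊓ _).1)
    have := Subgroup.mul_injective_of_disjoint hdis
      (a₁ := (⟨_, pow_mem (Subgroup.mem_zpowers z) p.1⟩, ⟨_, pow_mem (Subgroup.mem_zpowers y) p.2⟩))
      (a₂ := (⟨_, pow_mem (Subgroup.mem_zpowers z) q.1⟩, ⟨_, pow_mem (Subgroup.mem_zpowers y) q.2⟩)) h'
    simp only [Prod.mk.injEq, Subtype.mk.injEq] at this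
    refine Prod.ext (Fin.ext ?_) (Fin.ext ?_)
    · exact pow_injOn_Iio_orderOf (by simp [hoz]) (by simp [hoz]) this.1
    · exact pow_injOn_Iio_orderOf (by simp [hoy]) (by simp [hoy]) this.2
  have h9 : Nat.card (Fin 3 × Fin 3) = 9 := by simp
  have hge := Nat.card_le_card_of_injective f hf
  refine ⟨by omega, fun x hx => ?_⟩
  obtain ⟨p, hp⟩ := (hf.bijective_of_nat_card_le (by omega)).2 ⟨x, hx⟩
  exact ⟨p.1, p.2, p.1.2, p.2.2, (congrArg Subtype.val hp).symm⟩

/-- An element of 3-power order acting nontrivially on a group of order nine as a shear. -/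
theorem exists_shear {a b u : G} {i j : ℕ} (ha : a ^ 3 = 1) (hb : b ^ 3 = 1) (hab : Commute a b)
    (hba : b ∉ Subgroup.zpowers a) {k : ℕ} (hu : u ^ 3 ^ k = 1) (hi : i < 3) (hj : j < 3)
    (hua : Commute u a) (hub : u * b * u⁻¹ = a ^ i * b ^ j) (hne : ¬ Commute u b) :
    ∃ u' : G, Commute u' a ∧ u' * b * u'⁻¹ = b * a := by
  have e2 : u ^ 2 * b * (u ^ 2)⁻¹ = a ^ i * (a ^ i * b ^ j) ^ j := by
    calc u ^ 2 * b * (u ^ 2)⁻¹ = u * (u * b * u⁻¹) * u⁻¹ := by rw [pow_two]; group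
      _ = (u * a ^ i * u⁻¹) * (u * b * u⁻¹) ^ j := by
        rw [conj_pow]; conv_lhs => rw [hub]
        group
      _ = _ := by rw [(hua.pow_right i).eq, mul_inv_cancel_right, hub]
  interval_cases j
  · refine absurd ?_ hba
    rw [pow_zero, mul_one] at hub
    have : b = a ^ i := by
      calc b = u⁻¹ * (u * b * u⁻¹) * u := by group
        _ = a ^ i := by rw [hub, mul_assoc, ← (hua.pow_right i).eq, inv_mul_cancel_left]
    exact this ▸ pow_mem (Subgroup.mem_zpowers a) i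
  · rw [pow_one] at hub
    interval_cases i
    · refine absurd (mul_inv_eq_iff_eq_mul.1 ?_) hne
      simpa using hub
    · exact ⟨u, hua, by rw [hub, pow_one, hab.eq]⟩
    · refine ⟨u ^ 2, hua.pow_left 2, ?_⟩
      rw [e2, pow_one, pow_one, ← mul_assoc, ← pow_add, show 2 + 2 = 3 + 1 by rfl, pow_add, ha,
        one_mul, pow_one, hab.eq]
  · refine absurd ?_ hne
    have hc : Commute (u ^ 2) b := mul_inv_eq_iff_eq_mul.1 <| by
      rw [e2, (((hab.pow_left i).pow_right 2)).mul_pow, ← mul_assoc, ← pow_mul, ← pow_add, ← pow_mul,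
        show i + i * 2 = 3 * i by ring, pow_mul, ha, one_pow, one_mul,
        show 2 * 2 = 3 + 1 by rfl, pow_add, hb, one_mul, pow_one]
    obtain ⟨l, hl⟩ : Odd (3 ^ k) := Odd.pow ⟨1, rfl⟩
    have hu' : u = (u ^ 2) ^ (l + 1) := by
      rw [← pow_mul, show 2 * (l + 1) = 3 ^ k + 1 by omega, pow_add, hu, one_mul, pow_one]
    exact hu' ▸ hc.pow_left (l + 1)

end CfsgLib.FixityFour
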