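import Cfsg.Agent.Lib.FixityFour.OddTransfer
import Cfsg.Agent.Lib.Involutions.StronglyEmbedded

/-!
The case of point stabilizers of odd order divisible by three: a strongly 3-embedded subgroup or an
elementary abelian Sylow 3-subgroup of order nine.
-/

set_option autoImplicit false
set_option linter.unusedSectionVars false

namespace CfsgLib.FixityFour

open MulAction
open scoped Pointwise

variable {G : Type*} [Group G] [Finite G] {Ω : Type*} [MulAction G Ω] [Finite Ω]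

/-- All elements of order three of a Sylow 3-subgroup with one fixed set give strong 3-embedding. -/
theorem OddData.strongly_three (d : OddData G Ω) (P : Sylow 3 G) (h3 : 3 ∣ Nat.card G) {F : Set Ω}
    (hne : F.Nonempty) (h4 : F.ncard ≤ 4) (hPF : (P : Subgroup G) ≤ stabilizer G F)
    (hall : ∀ y ∈ (P : Subgroup G), y ^ 3 = 1 → y ≠ 1 → fixedBy Ω y = F) :
    ∃ H : Subgroup G, H ≠ ⊤ ∧ 3 ∣ Nat.card H ∧
      ∀ g : G, g ∉ H → ¬ 3 ∣ Nat.card ↥(H ⊓ H.map (MulAut.conj g).toMonoidHom) := by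
  have : Fact (Nat.Prime 3) := ⟨Nat.prime_three⟩
  refine ⟨stabilizer G F, d.data.stab_ne_top hne h4,
    (P.dvd_card_of_dvd_card h3).trans (Subgroup.card_dvd_of_le hPF), fun g hg h => hg ?_⟩
  have hM : ∀ y ∈ stabilizer G F, y ^ 3 = 1 → y ≠ 1 → fixedBy Ω y = F := by
    intro y hy h3y hy1
    obtain ⟨m, hm, hmy⟩ := exists_conj_mem_of_le P hPF hy (k := 1) (by simpa using h3y)
    have h := hall _ hmy (by rw [conj_pow, h3y, mul_one, mul_inv_cancel])
      (fun e => hy1 (conj_eq_one_iff.1 e))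
    rw [fix_conj] at h
    rw [← mem_stabilizer_iff.1 (inv_mem hm), ← h, inv_smul_smul]
  obtain ⟨⟨y, hy'⟩, hy⟩ :=
    exists_prime_orderOf_dvd_card' (G := ↥(stabilizer G F ⊓ (stabilizer G F).map (MulAut.conj g).toMonoidHom)) 3 h
  obtain ⟨hyM, w, hw, hwy⟩ := Subgroup.mem_inf.1 hy'
  rw [Subgroup.orderOf_mk] at hy
  have hy3 : y ^ 3 = 1 := hy ▸ pow_orderOf_eq_one y
  have hy1 : y ≠ 1 := ne_one_of_orderOf (by norm_num) hy
  have hwy' : g * w * g⁻¹ = y := hwy
  have hw3 : w ^ 3 = 1 := by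
    rw [← hwy', conj_pow] at hy3
    exact conj_eq_one_iff.1 hy3
  have hw1 : w ≠ 1 := fun e => hy1 (by rw [← hwy', e, mul_one, mul_inv_cancel])
  rw [mem_stabilizer_iff]
  calc g • F = fixedBy Ω (g * w * g⁻¹) := by rw [fix_conj, hM w hw hw3 hw1]
    _ = F := by rw [hwy', hM y hyM hy3 hy1]

/-- A 3-group stabilizing a big fixed set: stabilizers of moved points fix it pointwise, orbits have
at most three points. -/
theorem OddData.kernel_of_fix (d : OddData G Ω) {z y : G} (hz : Big Ω z) {R : Subgroup G}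
    (hR : IsPGroup 3 R) (hRF : R ≤ stabilizer G (fixedBy Ω z)) (hyR : y ∈ R) (hy : y ^ 3 = 1) {a : Ω}
    (ha : a ∈ fixedBy Ω z) (hya : y • a ≠ a) :
    (∀ r ∈ R, r • a = a → fixedBy Ω z ⊆ fixedBy Ω r) ∧ Nat.card (orbit R a) ≤ 3 := by
  have : Fact (Nat.Prime 3) := ⟨Nat.prime_three⟩
  obtain ⟨hF3, hI, -, -⟩ := d.inter_card hz hy (hRF hyR) ha hya
  have hF4 := d.data.fix z hz.2.1
  refine ⟨fun r hr hra => ?_, ?_⟩
  · -- the number of fixed points of `r` in the set is congruent to its size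
    obtain ⟨k, hk⟩ := hR ⟨r, hr⟩
    have hmod : (fixedBy Ω z).ncard % 3 = (fixedBy Ω z ∩ fixedBy Ω r).ncard % 3 :=
      ncard_modEq (p := 3) (k := k) (by simpa using congrArg Subtype.val hk) (hRF hr)
    have hain : a ∈ fixedBy Ω z ∩ fixedBy Ω r := ⟨ha, hra⟩
    have h1 : 0 < (fixedBy Ω z ∩ fixedBy Ω r).ncard := (Set.ncard_pos (Set.toFinite _)).2 ⟨a, hain⟩
    have hfull : (fixedBy Ω z ∩ fixedBy Ω r).ncard = (fixedBy Ω z).ncard := by
      by_contra hne
      have hle := Set.ncard_le_ncard (Set.inter_subset_left (s := fixedBy Ω z) (t := fixedBy Ω r))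
        (Set.toFinite _)
      have hI1 : (fixedBy Ω z ∩ fixedBy Ω r).ncard = 1 := by omega
      have hF : (fixedBy Ω z).ncard = 4 := by omega
      -- a common fixed point
      let S : SubMulAction R Ω :=
        { carrier := fixedBy Ω z
          smul_mem' := fun g x hx => smul_mem_of_stab (hRF g.2) hx }
      obtain ⟨⟨⟨e, he⟩, hfe⟩⟩ : Nonempty (fixedPoints R S) := by
        by_contra hemp
        have : IsEmpty (fixedPoints R S) := not_nonempty_iff.1 hemp
        have hc := hR.card_modEq_card_fixedPoints S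
        rw [show Nat.card S = (fixedBy Ω z).ncard from Nat.card_coe_set_eq _, hF,
          Nat.card_of_isEmpty (α := fixedPoints R S)] at hc
        exact absurd hc (by decide)
      have hey : y • e = e := congrArg Subtype.val (hfe ⟨y, hyR⟩)
      have her : r • e = e := congrArg Subtype.val (hfe ⟨r, hr⟩)
      have heq := Set.ncard_le_one (Set.toFinite _) |>.1 hI1.le e ⟨he, her⟩ a hain
      exact hya (heq ▸ hey)
    have heq := Set.eq_of_subset_of_ncard_le
      (Set.inter_subset_left (s := fixedBy Ω z) (t := fixedBy Ω r)) hfull.ge (Set.toFinite _)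
    exact fun ω hω => ((Set.ext_iff.1 heq ω).2 hω).2
  · obtain ⟨n, hn⟩ := hR.card_orbit a
    have hle : Nat.card (orbit R a) ≤ (fixedBy Ω z).ncard := by
      rw [← Nat.card_coe_set_eq]
      refine Nat.card_mono (Set.toFinite _) ?_
      rintro _ ⟨g, rfl⟩
      exact smul_mem_of_stab (hRF g.2) ha
    rw [hn] at hle ⊢
    by_contra hn3
    rcases n with _ | _ | n
    · norm_num at hn3
    · norm_num at hn3
    · have : 3 ^ 2 ≤ 3 ^ (n + 2) := Nat.pow_le_pow_right (by norm_num) (by omega)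
      omega

/-- A big central element and another big element moving its fixed points. -/
theorem OddData.nine_of_big (d : OddData G Ω) (P : Sylow 3 G) {z y : G} (hz : Big Ω z) (hy : Big Ω y)
    (hzP : z ∈ (P : Subgroup G)) (hyP : y ∈ (P : Subgroup G))
    (hzc : ∀ p ∈ (P : Subgroup G), Commute p z) {a : Ω} (ha : a ∈ fixedBy Ω z) (hya : y • a ≠ a) :
    Nat.card P = 9 ∧ ∀ x ∈ (P : Subgroup G), x ^ 3 = 1 := by
  have : Fact (Nat.Prime 3) := ⟨Nat.prime_three⟩
  have hzy : Commute z y := (hzc y hyP).symm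
  have hyz : y ∉ Subgroup.zpowers z := fun h =>
    hya (Subgroup.zpowers_le.2 (show z ∈ stabilizer G a from ha) h)
  have hzy' : z ∉ Subgroup.zpowers y := by
    intro h
    obtain ⟨b, hb, hzb⟩ := Set.exists_mem_notMem_of_ncard_lt_ncard
      (s := fixedBy Ω y ∩ fixedBy Ω z) (t := fixedBy Ω y) (by
        obtain ⟨-, hI, -, -⟩ := d.inter_card hz hy.1 (stab_of_commute hzy.symm) ha hya
        rw [Set.inter_comm, d.big_card hy hz]; omega) (Set.toFinite _)
    exact hzb ⟨hb, Subgroup.zpowers_le.2 (show y ∈ stabilizer G b from hb) h⟩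
  set Cy := Subgroup.centralizer ({y} : Set G)
  set E := (P : Subgroup G) ⊓ Cy
  have hzE : z ∈ E := ⟨hzP, Subgroup.mem_centralizer_singleton_iff.2 hzy⟩
  have hyE : y ∈ E := ⟨hyP, Subgroup.mem_centralizer_singleton_iff.2 rfl⟩
  have hEP : IsPGroup 3 E := P.isPGroup'.to_le inf_le_left
  have hE9 := d.card_le_nine hz hy hzy ha hya E hEP (fun c hc => hzc c hc.1)
    fun c hc => Subgroup.mem_centralizer_singleton_iff.1 hc.2
  obtain ⟨hE, hmem⟩ := mem_nine hz.1 hz.2.1 hy.1 hzy hyz hzE hyE hE9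
  rcases le_or_gt (Nat.card P) 9 with hP | hP
  · have hEP' : E = (P : Subgroup G) := Subgroup.eq_of_le_of_card_ge inf_le_left (by omega)
    refine ⟨by rw [← hEP']; exact hE, fun x hx => ?_⟩
    obtain ⟨i, j, -, -, rfl⟩ := hmem x (hEP'.symm ▸ hx)
    rw [(hzy.pow_pow i j).mul_pow, ← pow_mul, ← pow_mul, mul_comm i, mul_comm j, pow_mul, pow_mul,
      hz.1, hy.1, one_pow, one_pow, one_mul]
  exfalso
  have hlt : E < (P : Subgroup G) := lt_of_le_of_ne inf_le_left fun e => by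
    rw [e] at hE; omega
  obtain ⟨u, huP, huE, huN⟩ := Involutions.exists_mem_normalizer_notMem P.isPGroup' hlt
  obtain ⟨k, hk⟩ := P.isPGroup' ⟨u, huP⟩
  obtain ⟨i, j, hi, hj, hij⟩ := hmem _ ((Subgroup.mem_normalizer_iff.1 huN y).1 hyE)
  obtain ⟨u', hu'z, hu'y⟩ := exists_shear hz.1 hy.1 hzy hyz (k := k)
    (by simpa using congrArg Subtype.val hk) hi hj (hzc u huP) hij
    fun h => huE ⟨huP, Subgroup.mem_centralizer_singleton_iff.2 h.eq⟩
  -- the centralizer of `y`
  obtain ⟨P2, hyP2, hzP2, hmax⟩ := exists_sylow_centralizer (p := 3) y E hEP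
    (fun c hc => Subgroup.mem_centralizer_singleton_iff.1 hc.2) ⟨1, by simpa using hy.1⟩
  set C2 := (P2 : Subgroup G) ⊓ Cy
  rcases le_or_gt (Nat.card C2) 9 with hC2 | hC2
  · obtain ⟨b, hb, hzb⟩ : ∃ b ∈ fixedBy Ω y, z • b ≠ b := by
      by_contra h
      push Not at h
      have heq := d.fix_eq_of_subset hy hz.1 hz.2.1 h
      exact hya ((heq ▸ ha : a ∈ fixedBy Ω y))
    exact d.false_of_small_centralizer hy P hP hzy hz.1 hb hzb
      fun Y hY hYy => (hmax Y hY hYy).trans hC2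
  set E2 := C2 ⊓ Subgroup.centralizer ({z} : Set G)
  have hC2P : IsPGroup 3 C2 := P2.isPGroup'.to_le inf_le_left
  have hzE2 : z ∈ E2 := ⟨⟨hzP2 hzE, Subgroup.mem_centralizer_singleton_iff.2 hzy⟩,
    Subgroup.mem_centralizer_singleton_iff.2 rfl⟩
  have hyE2 : y ∈ E2 := ⟨⟨hyP2, Subgroup.mem_centralizer_singleton_iff.2 rfl⟩,
    Subgroup.mem_centralizer_singleton_iff.2 hzy.symm⟩
  have hE29 := d.card_le_nine hz hy hzy ha hya E2 (hC2P.to_le inf_le_left)
    (fun c hc => Subgroup.mem_centralizer_singleton_iff.1 hc.2)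
    fun c hc => Subgroup.mem_centralizer_singleton_iff.1 hc.1.2
  obtain ⟨hE2, hmem2⟩ := mem_nine hy.1 hy.2.1 hz.1 hzy.symm hzy' hyE2 hzE2 hE29
  have hlt2 : E2 < C2 := lt_of_le_of_ne inf_le_left fun e => by rw [e] at hE2; omega
  obtain ⟨v, hvC, hvE, hvN⟩ := Involutions.exists_mem_normalizer_notMem hC2P hlt2
  obtain ⟨k', hk'⟩ := hC2P ⟨v, hvC⟩
  obtain ⟨i', j', hi', hj', hij'⟩ := hmem2 _ ((Subgroup.mem_normalizer_iff.1 hvN z).1 hzE2)
  obtain ⟨v', hv'y, hv'z⟩ := exists_shear hy.1 hz.1 hzy.symm hzy' (k := k')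
    (by simpa using congrArg Subtype.val hk') hi' hj'
    (Subgroup.mem_centralizer_singleton_iff.1 hvC.2) hij'
    fun h => hvE ⟨hvC, Subgroup.mem_centralizer_singleton_iff.2 h.eq⟩
  set w := u' * v'⁻¹ * u'
  have hvz : v'⁻¹ * z * v' = z * y⁻¹ := by
    have h1 : v' * (z * y⁻¹) * v'⁻¹ = z := by
      rw [show v' * (z * y⁻¹) * v'⁻¹ = (v' * z * v'⁻¹) * (v' * y⁻¹ * v'⁻¹) by group, hv'z,
        hv'y.inv_right.eq, mul_inv_cancel_right, mul_inv_cancel_right]
    calc v'⁻¹ * z * v' = v'⁻¹ * (v' * (z * y⁻¹) * v'⁻¹) * v' := by rw [h1]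
      _ = z * y⁻¹ := by group
  have hvy : v'⁻¹ * y * v' = y := by rw [mul_assoc, ← hv'y.eq, inv_mul_cancel_left]
  have huz : u' * z * u'⁻¹ = z := by rw [hu'z.eq, mul_inv_cancel_right]
  have hwy : w * y * w⁻¹ = z := by
    calc w * y * w⁻¹ = u' * (v'⁻¹ * (u' * y * u'⁻¹) * v') * u'⁻¹ := by simp only [w]; group
      _ = u' * ((v'⁻¹ * y * v') * (v'⁻¹ * z * v')) * u'⁻¹ := by rw [hu'y]; group
      _ = u' * z * u'⁻¹ := by
        rw [hvy, hvz, show y * (z * y⁻¹) = z by rw [← mul_assoc, ← hzy.eq, mul_inv_cancel_right]]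
      _ = z := huz
  have hwz : w * z * w⁻¹ = y⁻¹ := by
    calc w * z * w⁻¹ = u' * (v'⁻¹ * (u' * z * u'⁻¹) * v') * u'⁻¹ := by simp only [w]; group
      _ = u' * (z * y⁻¹) * u'⁻¹ := by rw [huz, hvz]
      _ = (u' * z * u'⁻¹) * (u' * y * u'⁻¹)⁻¹ := by group
      _ = z * (y * z)⁻¹ := by rw [huz, hu'y]
      _ = y⁻¹ := by rw [mul_inv_rev, mul_inv_cancel_left]
  have hgy : w ^ 2 * y * (w ^ 2)⁻¹ = y⁻¹ := by
    calc w ^ 2 * y * (w ^ 2)⁻¹ = w * (w * y * w⁻¹) * w⁻¹ := by rw [pow_two]; group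
      _ = y⁻¹ := by rw [hwy, hwz]
  have hgz : w ^ 2 * z * (w ^ 2)⁻¹ = z⁻¹ := by
    calc w ^ 2 * z * (w ^ 2)⁻¹ = w * (w * z * w⁻¹) * w⁻¹ := by rw [pow_two]; group
      _ = (w * y * w⁻¹)⁻¹ := by rw [hwz]; group
      _ = z⁻¹ := by rw [hwy]
  obtain ⟨b, hb, l, hl⟩ := exists_odd_pow (w ^ 2)
  set h : G := (w ^ 2) ^ b
  have hhy : h * y * h⁻¹ = y⁻¹ := odd_pow_inverts hgy hb
  have hhz : h * z * h⁻¹ = z⁻¹ := odd_pow_inverts hgz hb
  have h1 : h = 1 := by
    refine d.eq_one_of_respects hz hy.1 (stab_of_commute hzy.symm) ha hya hl ?_ fun ω _ hyω => ?_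
    · rw [mem_stabilizer_iff, ← fix_conj, hhz, fixedBy_inv]
    · have hs : h • fixedBy Ω y = fixedBy Ω y := by rw [← fix_conj, hhy, fixedBy_inv]
      exact smul_mem_of_stab (mem_stabilizer_iff.2 hs) hyω
  rw [h1] at hhy
  have h2 : y * y = 1 := mul_eq_one_iff_eq_inv.2 (by simpa using hhy)
  exact hy.2.1 (by
    have := hy.1
    rw [pow_succ, pow_two, h2, one_mul] at this
    exact this)

/-- A big central element: every element of order three moving its fixed points cannot be small. -/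
theorem OddData.false_of_small (d : OddData G Ω) (P : Sylow 3 G) {z y : G} (hz : Big Ω z)
    (hzP : z ∈ (P : Subgroup G)) (hzc : ∀ p ∈ (P : Subgroup G), Commute p z)
    (hyP : y ∈ (P : Subgroup G)) (hy : y ^ 3 = 1) {a : Ω} (ha : a ∈ fixedBy Ω z) (hya : y • a ≠ a)
    (hsmall : ∀ x ∈ (P : Subgroup G), x ^ 3 = 1 → x ≠ 1 → ¬ fixedBy Ω z ⊆ fixedBy Ω x → ¬ Big Ω x) :
    False := by
  classical
  have : Fact (Nat.Prime 3) := ⟨Nat.prime_three⟩
  have hPF : (P : Subgroup G) ≤ stabilizer G (fixedBy Ω z) := fun p hp => stab_of_commute (hzc p hp)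
  have hy1 : y ≠ 1 := fun e => hya (by rw [e, one_smul])
  obtain ⟨hker, horb⟩ := d.kernel_of_fix hz P.isPGroup' hPF hyP hy ha hya
  set U : Subgroup (P : Subgroup G) := stabilizer (P : Subgroup G) a
  have hU : ∀ p : (P : Subgroup G), p ∈ U ↔ fixedBy Ω z ⊆ fixedBy Ω (p : G) :=
    fun p => ⟨fun h => hker p p.2 h, fun h => h ha⟩
  have : U.Normal := ⟨fun n hn g => (hU _).2 fun ω hω => by
    show ((g : G) * (n : G) * (g : G)⁻¹) • ω = ω
    rw [mul_smul, mul_smul, (hU n).1 hn (smul_mem_of_stab (inv_mem (hPF g.2)) hω), smul_inv_smul]⟩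
  have hidx : U.index ≤ 3 := by rwa [index_stabilizer, ← Nat.card_coe_set_eq]
  have hyU : (⟨y, hyP⟩ : (P : Subgroup G)) ∉ U := hya
  have hidx3 : U.index = 3 := by
    obtain ⟨n, hn⟩ := P.isPGroup'.index U
    have hidx' := hidx
    rw [hn] at hidx'
    have h1 : U.index ≠ 1 := fun e => hyU (Subgroup.index_eq_one.1 e ▸ Subgroup.mem_top _)
    rcases n with _ | _ | n
    · rw [pow_zero] at hn; omega
    · simpa using hn
    · have : 3 ^ 2 ≤ 3 ^ (n + 1 + 1) := Nat.pow_le_pow_right (by norm_num) (by omega)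
      omega
  have hq3 : Nat.card ((P : Subgroup G) ⧸ U) = 3 := by rw [← Subgroup.index_eq_card, hidx3]
  have := isCyclic_of_prime_card hq3
  let _ : CommGroup ((P : Subgroup G) ⧸ U) := IsCyclic.commGroup
  let φ : (P : Subgroup G) →* (P : Subgroup G) ⧸ U := QuotientGroup.mk' U
  have hφ : ∀ p, φ p = 1 ↔ p ∈ U := fun p => QuotientGroup.eq_one_iff p
  set s := φ ⟨y, hyP⟩
  have hs1 : s ≠ 1 := fun h => hyU ((hφ _).1 h)
  have hs3 : s ^ 3 = 1 := by
    have h := pow_card_eq_one' (x := s)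
    rwa [hq3] at h
  have hord : orderOf s = 3 := orderOf_eq_prime hs3 hs1
  have hy_small : ¬ Big Ω y := hsmall y hyP hy hy1 fun h => hya (h ha)
  have hval : ∀ c : G, ∀ hc : c⁻¹ * y * c ∈ (P : Subgroup G), φ ⟨_, hc⟩ = s := by
    intro c hc
    set y' : (P : Subgroup G) := ⟨_, hc⟩ with hy'
    have hy'3 : (c⁻¹ * y * c) ^ 3 = 1 := by
      have := conj_pow (a := c⁻¹) (b := y) (i := 3)
      rw [inv_inv] at this
      rw [this, hy, mul_one, inv_mul_cancel]
    have hy'1 : c⁻¹ * y * c ≠ 1 := fun e => hy1 (by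
      have : y = c * (c⁻¹ * y * c) * c⁻¹ := by group
      rw [this, e, mul_one, mul_inv_cancel])
    have hy'U : φ y' ≠ 1 := by
      intro h
      have heq := d.fix_eq_of_subset hz hy'3 hy'1 ((hU _).1 ((hφ _).1 h))
      refine hy_small ⟨hy, hy1, ?_⟩
      rw [show y = c * (c⁻¹ * y * c) * c⁻¹ by group, fix_conj, Set.ncard_smul_set, heq]
      exact hz.2.2
    obtain ⟨i, hi, hi'⟩ : ∃ i < 3, s ^ i = φ y' := by
      have htop : Subgroup.zpowers s = ⊤ := Subgroup.eq_top_of_card_eq _ (by rw [Nat.card_zpowers, hord, hq3])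
      obtain ⟨i, hi, he⟩ := Finset.mem_image.1
        ((mem_zpowers_iff_mem_range_orderOf).1 (htop ▸ Subgroup.mem_top (φ y')))
      exact ⟨i, by rwa [hord, Finset.mem_range] at hi, he⟩
    interval_cases i
    · exact absurd hi'.symm (by simpa using hy'U)
    · rw [← hi', pow_one]
    exfalso
    have hyy : (⟨y, hyP⟩ * y' : (P : Subgroup G)) ∈ U := (hφ _).1 (by
      rw [map_mul, ← hi', ← pow_succ']; exact hs3)
    have hYy : ∀ ω ∈ fixedBy Ω z, y • (c⁻¹ * y * c) • ω = ω := fun ω hω => by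
      rw [smul_smul]
      exact (hU _).1 hyy hω
    -- two conjugates of `z` centralizing `y`
    set C := Subgroup.centralizer ({y} : Set G)
    obtain ⟨W⟩ : Nonempty (Sylow 3 C) := inferInstance
    obtain ⟨T, hT⟩ := (W.isPGroup'.map C.subtype).exists_le_sylow
    obtain ⟨g, hg⟩ := exists_smul_eq G T P
    have hW : ∀ x : C, x ^ 3 = 1 → x ≠ 1 → Big Ω (x : G) →
        ∃ k : C, (g * (k : G)) • fixedBy Ω (x : G) = fixedBy Ω z := by
      intro x hx3 _ hbig
      obtain ⟨k, hk⟩ := exists_conj_mem W (x := x) (k := 1) (by simpa using hx3)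
      refine ⟨k, ?_⟩
      have hmem : (g * (k : G)) * (x : G) * (g * (k : G))⁻¹ ∈ (P : Subgroup G) := by
        rw [← hg]
        exact ⟨_, hT ⟨_, hk, rfl⟩, by show g * ((k : G) * x * (k : G)⁻¹) * g⁻¹ = _; group⟩
      rw [← fix_conj]
      have h3' : ((g * (k : G)) * (x : G) * (g * (k : G))⁻¹) ^ 3 = 1 := by
        rw [conj_pow, hbig.1, mul_one, mul_inv_cancel]
      have h1' : (g * (k : G)) * (x : G) * (g * (k : G))⁻¹ ≠ 1 := fun e => hbig.2.1 (conj_eq_one_iff.1 e)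
      refine d.fix_eq_of_subset hz h3' h1' (by_contra fun h => hsmall _ hmem h3' h1' h ⟨h3', h1', ?_⟩)
      rw [fix_conj, Set.ncard_smul_set]
      exact hbig.2.2
    have hzC : z ∈ C := Subgroup.mem_centralizer_singleton_iff.2 (hzc y hyP).symm
    have hz'C : c * z * c⁻¹ ∈ C := Subgroup.mem_centralizer_singleton_iff.2 (by
      have h := (hzc _ hc).symm.map (MulAut.conj c).toMonoidHom
      simp only [MulEquiv.coe_toMonoidHom, MulAut.conj_apply] at h
      rw [show c * (c⁻¹ * y * c) * c⁻¹ = y by group] at h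
      exact h.eq)
    obtain ⟨k, hk⟩ := hW ⟨z, hzC⟩ (Subtype.ext hz.1) (fun e => hz.2.1 (congrArg Subtype.val e)) hz
    obtain ⟨k', hk'⟩ := hW ⟨c * z * c⁻¹, hz'C⟩ (Subtype.ext (by
      rw [Subgroup.coe_pow, conj_pow, hz.1, mul_one, mul_inv_cancel]; rfl))
      (fun e => hz.2.1 (conj_eq_one_iff.1 (congrArg Subtype.val e)))
      ⟨by rw [conj_pow, hz.1, mul_one, mul_inv_cancel], fun e => hz.2.1 (conj_eq_one_iff.1 e),
        by show 2 ≤ (fixedBy Ω (c * z * c⁻¹)).ncard; rw [fix_conj, Set.ncard_smul_set]; exact hz.2.2⟩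
    set m := (k : G)⁻¹ * (k' : G) * c with hm
    have hmF : m ∈ stabilizer G (fixedBy Ω z) := by
      rw [mem_stabilizer_iff, hm, mul_smul, ← fix_conj c z, mul_smul]
      have h := hk'.trans hk.symm
      rw [mul_smul, mul_smul] at h
      rw [smul_left_cancel g h, inv_smul_smul]
    have hmy : m * (c⁻¹ * y * c) * m⁻¹ = y := by
      have hk1 : Commute ((k : G)⁻¹ * (k' : G)) y :=
        (show Commute (k : G) y from Subgroup.mem_centralizer_singleton_iff.1 k.2).inv_left.mul_left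
          (Subgroup.mem_centralizer_singleton_iff.1 k'.2)
      calc m * (c⁻¹ * y * c) * m⁻¹
          = ((k : G)⁻¹ * (k' : G)) * y * ((k : G)⁻¹ * (k' : G))⁻¹ := by rw [hm]; group
        _ = y := by rw [hk1.eq, mul_inv_cancel_right]
    have hyF := hPF hyP
    have hy'F := hPF hc
    -- on the fixed set `m` inverts `y`
    have hy'_eq : ∀ ω ∈ fixedBy Ω z, (c⁻¹ * y * c) • ω = y⁻¹ • ω := fun ω hω =>
      eq_inv_smul_iff.2 (hYy ω hω)
    have hmy' : ∀ ω ∈ fixedBy Ω z, m • y⁻¹ • ω = y • m • ω := fun ω hω => by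
      conv_rhs => rw [← hmy]
      rw [← hy'_eq ω hω, smul_smul, smul_smul, inv_mul_cancel_right]
    clear_value m
    obtain ⟨b, hb, l, hl⟩ := exists_odd_pow m
    have hres : ∀ n : ℕ, ∀ ω ∈ fixedBy Ω z, y • ω = ω → y • m ^ n • ω = m ^ n • ω := by
      intro n
      induction n with
      | zero => intro ω _ h; simpa using h
      | succ n ih =>
        intro ω hω h
        rw [pow_succ', mul_smul]
        set v := m ^ n • ω
        have hv : v ∈ fixedBy Ω z := smul_mem_of_stab (pow_mem hmF n) hω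
        rw [← hmy' v hv, inv_smul_eq_iff.2 (ih ω hω h).symm]
    have hb1 : m ^ b = 1 :=
      d.eq_one_of_respects hz hy hyF ha hya hl (pow_mem hmF b) (hres b)
    -- so `m` commutes with `y` on the fixed set
    have hsq : ∀ ω ∈ fixedBy Ω z, m • m • y • ω = y • m • m • ω := by
      intro ω hω
      have h1 := hmy' (y • ω) (smul_mem_of_stab hyF hω)
      rw [inv_smul_smul] at h1
      -- `m ω = y m y ω`
      have h2 : m • y • ω = y⁻¹ • m • ω := eq_inv_smul_iff.2 h1.symm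
      rw [h2, hmy' (m • ω) (smul_mem_of_stab hmF hω)]
    obtain ⟨j, rfl⟩ := hb
    have hcomm : ∀ n : ℕ, ∀ ω ∈ fixedBy Ω z, (m ^ 2) ^ n • y • ω = y • (m ^ 2) ^ n • ω := by
      intro n
      induction n with
      | zero => intro ω _; simp
      | succ n ih =>
        intro ω hω
        rw [pow_succ' (m ^ 2), mul_smul, mul_smul, ih ω hω]
        have hv := hsq _ (smul_mem_of_stab (pow_mem (pow_mem hmF 2) n) hω)
        generalize (m ^ 2) ^ n • ω = v at hv ⊢
        rw [pow_two, mul_smul, mul_smul]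
        exact hv
    have hmm : m = (m ^ 2) ^ (j + 1) := by
      rw [← pow_mul, show 2 * (j + 1) = (2 * j + 1) + 1 by ring, pow_add, hb1, one_mul, pow_one]
    have hfin := hcomm (j + 1) a ha
    rw [← hmm] at hfin
    have hcon := hmy' a ha
    rw [← hfin] at hcon
    have h2 : y • y • a = a := by
      have := congrArg (y • ·) (smul_left_cancel m hcon)
      rw [smul_inv_smul] at this
      exact this.symm
    refine hya ?_
    have h3 : y • y • y • a = a := by
      rw [smul_smul, smul_smul, show y * y * y = y ^ 3 by rw [pow_succ, pow_two], hy, one_smul]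
    rwa [h2] at h3
  -- the transfer is nontrivial
  have hV := hom_eq_one d.data.simple d.data.hna (MonoidHom.transfer φ) y
  have : Fintype (G ⧸ (P : Subgroup G)) := Fintype.ofFinite _
  rw [transfer_eq_prod_fixed φ Nat.prime_three hy] at hV
  rw [Finset.prod_congr rfl (fun q _ => ?_), Finset.prod_const, Finset.card_univ,
    ← Nat.card_eq_fintype_card] at hV
  · exact not_dvd_card_fixed P hy (by have h := orderOf_dvd_of_pow_eq_one hV; rwa [hord] at h)
  · obtain ⟨c, hc⟩ := QuotientGroup.mk_surjective q.1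
    have hm := (smul_coset_eq_iff y c).1 (by rw [hc]; exact q.2)
    rw [cv_rep φ hc hm]
    exact hval c hm

/-- No big elements can be central in no Sylow subgroup. -/
theorem OddData.false_of_no_central (d : OddData G Ω)
    (hno : ∀ P : Sylow 3 G, ∀ z ∈ (P : Subgroup G), (∀ p ∈ (P : Subgroup G), Commute p z) → ¬ Big Ω z)
    {x : G} (hx : Big Ω x) : False := by
  have : Fact (Nat.Prime 3) := ⟨Nat.prime_three⟩
  obtain ⟨P, hxP, -, hmax⟩ := exists_sylow_centralizer (p := 3) x ⊥ IsPGroup.of_bot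
    (fun c hc => by rw [Subgroup.mem_bot.1 hc]; exact Commute.one_left x) ⟨1, by simpa using hx.1⟩
  set F := fixedBy Ω x
  set U := (P : Subgroup G) ⊓ fixingSubgroup G F
  set R := (P : Subgroup G) ⊓ stabilizer G F
  have hfixF : ∀ g : G, g ∈ fixingSubgroup G F ↔ F ⊆ fixedBy Ω g := fun g =>
    mem_fixingSubgroup_iff G
  have hxU : x ∈ U := ⟨hxP, (hfixF x).2 subset_rfl⟩
  have hUnorm : ∀ g ∈ stabilizer G F, ∀ u ∈ fixingSubgroup G F,
      g * u * g⁻¹ ∈ fixingSubgroup G F := fun g hg u hu => (hfixF _).2 fun ω hω => by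
    show (g * u * g⁻¹) • ω = ω
    rw [mul_smul, mul_smul, (hfixF u).1 hu (smul_mem_of_stab (inv_mem hg) hω), smul_inv_smul]
  have hxR : x ∈ R := ⟨hxP, mem_stabilizer_iff.2 (by rw [← fix_conj, mul_inv_cancel_right])⟩
  have hne : R ≠ (P : Subgroup G) := by
    intro h
    obtain ⟨z, hzU, hz1, hz3, hzc⟩ := exists_central (p := 3) (N := U) P.isPGroup' inf_le_left
      (fun g hg u hu => ⟨(P : Subgroup G).mul_mem ((P : Subgroup G).mul_mem hg hu.1) ((P : Subgroup G).inv_mem hg),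
        hUnorm g (h.ge hg).2 u hu.2⟩) (fun e => hx.2.1 (Subgroup.mem_bot.1 (e ▸ hxU)))
    refine hno P z hzU.1 hzc ⟨hz3, hz1, ?_⟩
    rw [d.fix_eq_of_subset hx hz3 hz1 ((hfixF z).1 hzU.2)]
    exact hx.2.2
  obtain ⟨w, hwP, hwR, hwN⟩ := Involutions.exists_mem_normalizer_notMem P.isPGroup'
    (lt_of_le_of_ne inf_le_left hne)
  set x' := w * x * w⁻¹
  have hx'R : x' ∈ R := (Subgroup.mem_normalizer_iff.1 hwN x).1 hxR
  have hx' : Big Ω x' := ⟨by rw [conj_pow, hx.1, mul_one, mul_inv_cancel],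
    fun e => hx.2.1 (conj_eq_one_iff.1 e), by rw [fix_conj, Set.ncard_smul_set]; exact hx.2.2⟩
  obtain ⟨a, ha, hxa⟩ : ∃ a ∈ F, x' • a ≠ a := by
    by_contra h
    push Not at h
    exact hwR ⟨hwP, mem_stabilizer_iff.2 (by rw [← fix_conj]; exact d.fix_eq_of_subset hx hx'.1 hx'.2.1 h)⟩
  have hb3 := d.outside hx hx' hx'R.2 ha hxa
  obtain ⟨b, hb⟩ := Set.nonempty_of_ncard_ne_zero (s := fixedBy Ω x' \ F) (by show (fixedBy Ω x' \ fixedBy Ω x).ncard ≠ 0; omega)
  -- `R` preserves both fixed sets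
  have hRF' : ∀ r ∈ R, r ∈ stabilizer G (fixedBy Ω x') := by
    intro r hr
    have h : w⁻¹ * r * w ∈ R := (Subgroup.mem_normalizer_iff''.1 hwN r).1 hr
    rw [mem_stabilizer_iff, fix_conj]
    calc r • w • F = w • (w⁻¹ * r * w) • F := by rw [smul_smul, smul_smul]; congr 1; group
      _ = w • F := by rw [mem_stabilizer_iff.1 h.2]
  have hcomm : ∀ u ∈ U, Commute u x' := by
    intro u hu
    have huR : u ∈ R := ⟨hu.1, mem_stabilizer_iff.2 (Set.ext fun ω => by
      constructor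
      · rintro ⟨o, ho, rfl⟩
        have : u • o = o := (hfixF u).1 hu.2 ho
        show u • o ∈ F
        rwa [this]
      · exact fun hω => ⟨ω, hω, (hfixF u).1 hu.2 hω⟩)⟩
    set q := u * x' * u⁻¹ * x'⁻¹ with hq
    have hqU : q ∈ U := by
      rw [hq, show u * x' * u⁻¹ * x'⁻¹ = u * (x' * u⁻¹ * x'⁻¹) by group]
      exact mul_mem hu ⟨(P : Subgroup G).mul_mem ((P : Subgroup G).mul_mem hx'R.1
        ((P : Subgroup G).inv_mem hu.1)) ((P : Subgroup G).inv_mem hx'R.1),
        hUnorm x' hx'R.2 _ ((fixingSubgroup G F).inv_mem hu.2)⟩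
    have hqb : q • b = b := by
      have h1 : (u * x' * u⁻¹) ∈ stabilizer G b := by
        show (u * x' * u⁻¹) • b = b
        rw [mul_smul, mul_smul, show x' • u⁻¹ • b = u⁻¹ • b from
          smul_mem_of_stab (inv_mem (hRF' u huR)) hb.1, smul_inv_smul]
      exact mul_mem h1 (inv_mem (show x' ∈ stabilizer G b from hb.1))
    obtain ⟨k, hk⟩ := P.isPGroup' ⟨q, hqU.1⟩
    have h1 := d.eq_one_of_extra hx (k := k) (by simpa using congrArg Subtype.val hk)
      ((hfixF q).1 hqU.2) hb.2 hqb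
    exact mul_inv_eq_one.1 (show (u * x') * (x' * u)⁻¹ = 1 by rw [← h1, hq]; group)
  have hU3 : Nat.card U ≤ 3 := by
    let f : U → (fixedBy Ω x' \ F : Set Ω) := fun u => ⟨(u : G) • b,
      smul_mem_of_commute (hcomm u u.2) hb.1, fun h => hb.2 (by
        have := (hfixF (u : G)⁻¹).1 (inv_mem u.2.2) h
        rw [mem_fixedBy, inv_smul_smul] at this
        exact this ▸ h)⟩
    have hf : Function.Injective f := by
      intro u u' h
      have h' : (u : G) • b = (u' : G) • b := congrArg Subtype.val h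
      obtain ⟨k, hk⟩ := P.isPGroup' ⟨((u'⁻¹ * u : U) : G), (u'⁻¹ * u).2.1⟩
      have h1 := d.eq_one_of_extra hx (q := ((u'⁻¹ * u : U) : G)) (k := k)
        (by simpa using congrArg Subtype.val hk) ((hfixF _).1 (u'⁻¹ * u).2.2) hb.2
        (by rw [Subgroup.coe_mul, Subgroup.coe_inv, mul_smul, h', inv_smul_smul])
      exact (inv_mul_eq_one.1 (Subtype.ext h1)).symm
    refine (Nat.card_le_card_of_injective f hf).trans ?_
    rw [Nat.card_coe_set_eq, hb3]
  have hR9 : Nat.card R ≤ 9 := by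
    obtain ⟨hker, horb⟩ := d.kernel_of_fix hx (R := R) (P.isPGroup'.to_le inf_le_left) inf_le_right
      hx'R hx'.1 ha hxa
    have hst : Nat.card (stabilizer R a) ≤ Nat.card U :=
      Nat.card_le_card_of_injective
        (fun r => (⟨((r : R) : G), (r : R).2.1, (hfixF _).2 (hker _ (r : R).2 r.2)⟩ : U))
        fun r r' h => Subtype.ext (Subtype.ext (congrArg (fun u : U => (u : G)) h))
    rw [← Nat.card_congr (orbitProdStabilizerEquivGroup R a), Nat.card_prod]
    exact (Nat.mul_le_mul horb (hst.trans hU3)).trans (by norm_num)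
  have hcx : Commute x' x := (hcomm x hxU).symm
  have hx'x : x' ∉ Subgroup.zpowers x := fun h =>
    hxa (Subgroup.zpowers_le.2 (show x ∈ stabilizer G a from ha) h)
  obtain ⟨hR, -⟩ := mem_nine hx.1 hx.2.1 hx'.1 hcx.symm hx'x hxR hx'R hR9
  have hP : 9 < Nat.card P := by
    by_contra h
    exact hne (Subgroup.eq_of_le_of_card_ge inf_le_left (by rw [hR]; exact not_lt.1 h))
  refine d.false_of_small_centralizer hx P hP hcx hx'.1 ha hxa fun Y hY hYx => ?_
  refine (hmax Y hY hYx).trans ((Subgroup.card_le_of_le ?_).trans hR9)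
  exact fun c hc => ⟨hc.1, stab_of_commute (Subgroup.mem_centralizer_singleton_iff.1 hc.2)⟩

/-- The conclusion for point stabilizers of odd order divisible by three. -/
theorem OddData.main (d : OddData G Ω) (a : Ω) (h3 : 3 ∣ Nat.card (stabilizer G a)) (P : Sylow 3 G) :
    (∃ H : Subgroup G, H ≠ ⊤ ∧ 3 ∣ Nat.card H ∧
      ∀ g : G, g ∉ H → ¬ 3 ∣ Nat.card ↥(H ⊓ H.map (MulAut.conj g).toMonoidHom)) ∨
    (Nat.card P = 9 ∧ ∀ x ∈ (P : Subgroup G), x ^ 3 = 1) := by
  have : Fact (Nat.Prime 3) := ⟨Nat.prime_three⟩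
  have h3G : 3 ∣ Nat.card G := h3.trans (Subgroup.card_subgroup_dvd_card _)
  by_cases hc : ∃ P : Sylow 3 G, ∃ z ∈ (P : Subgroup G),
      (∀ p ∈ (P : Subgroup G), Commute p z) ∧ Big Ω z
  · obtain ⟨Q, z, hzQ, hzc, hz⟩ := hc
    have hQF : (Q : Subgroup G) ≤ stabilizer G (fixedBy Ω z) := fun p hp => stab_of_commute (hzc p hp)
    by_cases hall : ∀ y ∈ (Q : Subgroup G), y ^ 3 = 1 → y ≠ 1 → fixedBy Ω z ⊆ fixedBy Ω y
    · exact Or.inl (d.strongly_three Q h3G
        (Set.nonempty_of_ncard_ne_zero (by have := hz.2.2; omega)) (d.data.fix z hz.2.1) hQF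
        fun y hy hy3 hy1 => d.fix_eq_of_subset hz hy3 hy1 (hall y hy hy3 hy1))
    push Not at hall
    obtain ⟨y, hyQ, hy3, hy1, hyn⟩ := hall
    by_cases hb : ∃ y ∈ (Q : Subgroup G), Big Ω y ∧ ∃ a ∈ fixedBy Ω z, y • a ≠ a
    · obtain ⟨y', hy'Q, hy', a', ha', hya'⟩ := hb
      obtain ⟨hcard, hexp⟩ := d.nine_of_big Q hz hy' hzQ hy'Q hzc ha' hya'
      refine Or.inr ⟨by rw [P.card_eq_multiplicity, ← Q.card_eq_multiplicity, hcard], fun x hx => ?_⟩
      obtain ⟨g, hg⟩ := exists_smul_eq G Q P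
      rw [← hg] at hx
      obtain ⟨q, hq, hqx⟩ := hx
      rw [← hqx]
      show (g * q * g⁻¹) ^ 3 = 1
      rw [conj_pow, hexp q hq, mul_one, mul_inv_cancel]
    · obtain ⟨a', ha', hya'⟩ := Set.not_subset.1 hyn
      refine (d.false_of_small Q hz hzQ hzc hyQ hy3 ha' hya' fun x hx hx3 hx1 hn hbig => hb ?_).elim
      obtain ⟨b, hb1, hb2⟩ := Set.not_subset.1 hn
      exact ⟨x, hx, hbig, b, hb1, hb2⟩
  push Not at hc
  by_cases hbig : ∃ x : G, Big Ω x
  · obtain ⟨x, hx⟩ := hbig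
    exact (d.false_of_no_central (fun Q z hz hzc => hc Q z hz hzc) hx).elim
  push Not at hbig
  -- every element of order three fixes exactly one point
  obtain ⟨⟨t, hta⟩, ht⟩ := exists_prime_orderOf_dvd_card' (G := stabilizer G a) 3 h3
  rw [Subgroup.orderOf_mk] at ht
  have htn : 0 < (fixedBy Ω t).ncard := (Set.ncard_pos (Set.toFinite _)).2 ⟨a, hta⟩
  have h1 : ∀ y : G, y ^ 3 = 1 → y ≠ 1 → (fixedBy Ω y).ncard = 1 := by
    intro y hy hy1
    have e1 := d.card_cases hy hy1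
    have e2 := d.card_cases (ht ▸ pow_orderOf_eq_one t) (ne_one_of_orderOf (by norm_num) ht)
    have e3 : ¬ 2 ≤ (fixedBy Ω y).ncard := fun h => hbig y ⟨hy, hy1, h⟩
    have e4 : ¬ 2 ≤ (fixedBy Ω t).ncard := fun h =>
      hbig t ⟨ht ▸ pow_orderOf_eq_one t, ne_one_of_orderOf (by norm_num) ht, h⟩
    omega
  obtain ⟨z, hzP, hz1, hz3, hzc⟩ := exists_central (p := 3) (N := (P : Subgroup G)) P.isPGroup' le_rfl
    (fun g hg n hn => mul_mem (mul_mem hg hn) (inv_mem hg)) (fun e => by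
      have := P.dvd_card_of_dvd_card h3G
      rw [e, Subgroup.card_bot] at this
      norm_num at this)
  obtain ⟨f, hf⟩ := Set.ncard_eq_one.1 (h1 z hz3 hz1)
  refine Or.inl (d.strongly_three P h3G (F := fixedBy Ω z) (hf ▸ Set.singleton_nonempty f)
    (by rw [h1 z hz3 hz1]; norm_num) (fun p hp => stab_of_commute (hzc p hp)) fun y hy hy3 hy1 => ?_)
  obtain ⟨e, he⟩ := Set.ncard_eq_one.1 (h1 y hy3 hy1)
  have hyf : y • f ∈ fixedBy Ω z :=
    smul_mem_of_commute (hzc y hy) (hf ▸ Set.mem_singleton f)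
  rw [hf] at hyf ⊢
  have hfy : f ∈ fixedBy Ω y := hyf
  rw [he] at hfy ⊢
  rw [Set.mem_singleton_iff.1 hfy]

end CfsgLib.FixityFour
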