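import Mathlib

/-!
Evaluation of the transfer at an element of prime order by the cosets it fixes.
-/

set_option autoImplicit false
set_option linter.unusedSectionVars false

namespace CfsgLib.FixityFour

open Subgroup

universe u v

variable {Q : Type u} [Group Q] [Finite Q] {N : Subgroup Q} {C : Type v} [CommGroup C] (ϕ : N →* C)

open scoped Classical in
/-- The contribution of a coset to the transfer of an element. -/
noncomputable def cv (x : Q ⧸ N) (g : Q) : C :=
  if h : x.out⁻¹ * g * x.out ∈ N then ϕ ⟨_, h⟩ else 1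

omit [Finite Q] in
theorem smul_coset_eq_iff (g c : Q) :
    g • (c : Q ⧸ N) = (c : Q ⧸ N) ↔ c⁻¹ * g * c ∈ N := by
  rw [show g • (c : Q ⧸ N) = ((g * c : Q) : Q ⧸ N) from rfl, QuotientGroup.eq, ← inv_mem_iff]
  simp [mul_assoc]

omit [Finite Q] in
theorem cv_rep {x : Q ⧸ N} {g c : Q} (hc : (c : Q ⧸ N) = x) (h : c⁻¹ * g * c ∈ N) :
    cv ϕ x g = ϕ ⟨_, h⟩ := by
  subst hc
  obtain ⟨k, hk⟩ := QuotientGroup.mk_out_eq_mul N c
  have h' : (c : Q ⧸ N).out⁻¹ * g * (c : Q ⧸ N).out ∈ N :=
    (smul_coset_eq_iff g _).1 (by rw [QuotientGroup.out_eq']; exact (smul_coset_eq_iff g c).2 h)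
  rw [cv, dif_pos h']
  have : (⟨_, h'⟩ : N) = k⁻¹ * ⟨_, h⟩ * k := Subtype.ext (by
    show (c : Q ⧸ N).out⁻¹ * g * (c : Q ⧸ N).out = (k : Q)⁻¹ * (c⁻¹ * g * c) * k
    rw [hk]; group)
  rw [this, map_mul, map_mul, map_inv, mul_comm, ← mul_assoc, mul_inv_cancel, one_mul]

theorem minimalPeriod_dvd_of_pow {g : Q} {s : ℕ} (h : g ^ s = 1) (x : Q ⧸ N) :
    Function.minimalPeriod (g • ·) x ∣ s := by
  refine Function.IsPeriodicPt.minimalPeriod_dvd ?_
  show (g • ·)^[s] x = x
  rw [smul_iterate, h]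
  exact one_smul Q x

theorem orbit_singleton {g : Q} {x : Q ⧸ N} (h : g • x = x) :
    Quotient.out (Quotient.mk (MulAction.orbitRel (zpowers g) (Q ⧸ N)) x) = x := by
  have h1 : Quotient.out (Quotient.mk (MulAction.orbitRel (zpowers g) (Q ⧸ N)) x) ∈
      MulAction.orbit (zpowers g) x :=
    MulAction.orbitRel_apply.1 (Quotient.exact (Quotient.out_eq _))
  obtain ⟨⟨z, hz⟩, hz'⟩ := h1
  rw [← hz']
  show z • x = x
  exact (zpowers_le.2 (MulAction.mem_stabilizer_iff.2 h) hz : z ∈ MulAction.stabilizer Q x)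

open scoped Classical in
/-- The transfer of an element of prime order, with values of exponent that prime. -/
theorem transfer_eq_prod_fixed [Fintype (Q ⧸ N)] {g : Q} {s : ℕ} (hs : s.Prime) (hg : g ^ s = 1) :
    MonoidHom.transfer ϕ g = ∏ x : {x : Q ⧸ N // g • x = x}, cv ϕ x.1 g := by
  let _ : Fintype (Quotient (MulAction.orbitRel (zpowers g) (Q ⧸ N))) := Fintype.ofFinite _
  rw [MonoidHom.transfer_eq_prod_quotient_orbitRel_zpowers_quot]
  set F := (Finset.univ : Finset (Quotient (MulAction.orbitRel (zpowers g) (Q ⧸ N)))).filter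
    fun q => g • q.out = q.out
  rw [← Finset.prod_subset (Finset.subset_univ F) ?_]
  · refine (Finset.prod_bij (fun x _ => Quotient.mk _ x.1) ?_ ?_ ?_ ?_).symm
    · intro x _
      rw [Finset.mem_filter]
      exact ⟨Finset.mem_univ _, by rw [orbit_singleton x.2]; exact x.2⟩
    · intro x _ y _ h
      have h' := congrArg Quotient.out h
      rw [orbit_singleton x.2, orbit_singleton y.2] at h'
      exact Subtype.ext h'
    · intro q hq
      exact ⟨⟨q.out, (Finset.mem_filter.1 hq).2⟩, Finset.mem_univ _, Quotient.out_eq q⟩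
    · intro x _
      have hout := orbit_singleton x.2
      have hx : x.1.out⁻¹ * g * x.1.out ∈ N :=
        (smul_coset_eq_iff g _).1 (by rw [QuotientGroup.out_eq']; exact x.2)
      rw [cv, dif_pos hx]
      refine congrArg ϕ (Subtype.ext ?_)
      show x.1.out⁻¹ * g * x.1.out = _
      dsimp only
      rw [hout, Function.minimalPeriod_eq_one_iff_isFixedPt.2 x.2, pow_one]
  · intro q _ hq
    have hne : g • q.out ≠ q.out := fun h => hq (Finset.mem_filter.2 ⟨Finset.mem_univ _, h⟩)
    have hp : Function.minimalPeriod (g • ·) q.out = s :=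
      ((Nat.dvd_prime hs).1 (minimalPeriod_dvd_of_pow hg q.out)).resolve_left fun h =>
        hne (Function.minimalPeriod_eq_one_iff_isFixedPt.1 h)
    rw [← map_one ϕ]
    refine congrArg ϕ (Subtype.ext ?_)
    show q.out.out⁻¹ * g ^ Function.minimalPeriod (g • ·) q.out * q.out.out = 1
    rw [hp, hg]
    group


end CfsgLib.FixityFour
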