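import Cfsg.Agent.Lib.FixityFour.OddBasic
import Cfsg.Agent.Lib.FixityFour.Count
import Cfsg.Agent.Lib.FixityFour.PrimeTransfer
import Cfsg.Agent.Lib.PGroup.Frattini

/-!
Transfer to the abelianization of a Sylow 3-subgroup at an element with small centralizer.
-/

set_option autoImplicit false
set_option linter.unusedSectionVars false

namespace CfsgLib.FixityFour

open MulAction
open scoped Pointwise

variable {G : Type*} [Group G] [Finite G] {Ω : Type*} [MulAction G Ω] [Finite Ω]

/-- The number of cosets of a Sylow subgroup fixed by an element of order `p`. -/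
theorem not_dvd_card_fixed {p : ℕ} [Fact p.Prime] (P : Sylow p G) {x : G} (hx : x ^ p = 1) :
    ¬ p ∣ Nat.card {q : G ⧸ (P : Subgroup G) // x • q = q} := by
  intro h
  refine P.not_dvd_index ?_
  have h' := ncard_modEq (p := p) (g := x) (k := 1) (by simpa using hx)
    (F := (Set.univ : Set (G ⧸ (P : Subgroup G)))) (mem_stabilizer_iff.2 Set.smul_set_univ)
  rw [Set.ncard_univ, Set.univ_inter, ← Nat.card_coe_set_eq] at h'
  rw [Subgroup.index_eq_card]
  exact (Nat.ModEq.dvd_iff h' dvd_rfl).2 h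

/-- A `p`-group with cyclic abelianization is commutative. -/
theorem comm_of_cyclic_abelianization {p : ℕ} [Fact p.Prime] {P : Type*} [Group P] [Finite P]
    (hP : IsPGroup p P) (hc : IsCyclic (Abelianization P)) (a b : P) : a * b = b * a := by
  obtain ⟨g, hg⟩ := hc.exists_generator
  obtain ⟨g, rfl⟩ := QuotientGroup.mk_surjective g
  have htop : Subgroup.zpowers g ⊔ frattini P = ⊤ := by
    refine eq_top_iff.2 fun x _ => ?_
    obtain ⟨i, hi⟩ := Subgroup.mem_zpowers_iff.1 (hg (Abelianization.of x))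
    rw [show x = g ^ i * ((g ^ i)⁻¹ * x) by group]
    refine Subgroup.mul_mem _ (Subgroup.mem_sup_left (Subgroup.zpow_mem _ (Subgroup.mem_zpowers g) i))
      (Subgroup.mem_sup_right (PGroup.commutator_le_frattini hP ?_))
    rw [← Abelianization.ker_of, MonoidHom.mem_ker, map_mul, map_inv, map_zpow]
    exact inv_mul_eq_one.2 hi
  have hall : ∀ x : P, x ∈ Subgroup.zpowers g := fun x => (frattini_nongenerating htop) ▸ Subgroup.mem_top x
  obtain ⟨i, rfl⟩ := Subgroup.mem_zpowers_iff.1 (hall a)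
  obtain ⟨j, rfl⟩ := Subgroup.mem_zpowers_iff.1 (hall b)
  exact (Commute.refl g).zpow_zpow i j

/-- A big element with a small centralizer is not inverted. -/
theorem OddData.not_inverted (d : OddData G Ω) {x c : G} (hx : Big Ω x) (hcx : Commute c x)
    (hc3 : c ^ 3 = 1) {a : Ω} (ha : a ∈ fixedBy Ω x) (hca : c • a ≠ a)
    (hbound : ∀ Y : Subgroup G, IsPGroup 3 Y → (∀ y ∈ Y, Commute y x) → Nat.card Y ≤ 9) (g : G) :
    g * x * g⁻¹ ≠ x⁻¹ := by
  intro hg
  have : Fact (Nat.Prime 3) := ⟨Nat.prime_three⟩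
  set C := Subgroup.centralizer ({x} : Set G) with hC
  have hmem : ∀ y : G, y ∈ C ↔ Commute y x := fun y => Subgroup.mem_centralizer_singleton_iff
  have hp : IsPGroup 3 (Subgroup.zpowers (⟨c, (hmem c).2 hcx⟩ : C)) := by
    rintro ⟨y, hy⟩
    obtain ⟨i, rfl⟩ := hy
    refine ⟨1, Subtype.ext ?_⟩
    rw [pow_one, Subgroup.coe_pow, ← zpow_natCast, ← zpow_mul, mul_comm, zpow_mul, zpow_natCast,
      show (⟨c, _⟩ : C) ^ 3 = 1 from Subtype.ext hc3, one_zpow]
    rfl
  obtain ⟨W, hW⟩ := hp.exists_le_sylow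
  set W' : Subgroup G := (W : Subgroup C).map C.subtype with hW'
  have hcW : c ∈ W' := ⟨_, hW (Subgroup.mem_zpowers _), rfl⟩
  have hxW : x ∈ W' := by
    obtain ⟨m, hm⟩ := exists_conj_mem W (x := (⟨x, (hmem x).2 (Commute.refl x)⟩ : C)) (k := 1)
      (Subtype.ext (by rw [Subgroup.coe_pow, pow_one]; exact hx.1))
    refine ⟨_, hm, ?_⟩
    show (m : G) * x * (m : G)⁻¹ = x
    rw [((hmem _).1 m.2).eq, mul_inv_cancel_right]
  have hW9 : Nat.card W' ≤ 9 :=
    hbound _ (W.isPGroup'.map _) (by rintro _ ⟨y, -, rfl⟩; exact (hmem _).1 y.2)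
  have hcnx : c ∉ Subgroup.zpowers x := fun h => hca (Subgroup.zpowers_le.2
    (show x ∈ stabilizer G a from ha) h)
  obtain ⟨-, hel⟩ := mem_nine hx.1 hx.2.1 hc3 hcx.symm hcnx hxW hcW hW9
  -- conjugation by `g` permutes the Sylow subgroups of the centralizer
  have hgC : ∀ y ∈ C, g * y * g⁻¹ ∈ C := by
    intro y hy
    refine (hmem _).2 ?_
    have h := ((hmem y).1 hy).inv_right
    have := h.map (MulAut.conj g).toMonoidHom
    simpa [MulAut.conj_apply, hg, show g * x⁻¹ * g⁻¹ = x by
      have := congrArg (·⁻¹) hg; simpa [mul_inv_rev, mul_assoc] using this] using this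
  have hWC : W'.map (MulAut.conj g).toMonoidHom ≤ C := by
    rintro _ ⟨_, ⟨y, -, rfl⟩, rfl⟩
    exact hgC _ y.2
  obtain ⟨T, hT⟩ := (((W.isPGroup'.map C.subtype).map (MulAut.conj g).toMonoidHom).comap_subtype
    (K := C)).exists_le_sylow
  obtain ⟨k, hk⟩ := exists_smul_eq C T W
  have hkg : ∀ w ∈ W', ((k : G) * g) * w * ((k : G) * g)⁻¹ ∈ W' := by
    intro w hw
    have hwm : g * w * g⁻¹ ∈ W'.map (MulAut.conj g).toMonoidHom := ⟨w, hw, rfl⟩
    refine ⟨k * ⟨g * w * g⁻¹, hWC hwm⟩ * k⁻¹, by rw [← hk]; exact ⟨_, hT hwm, rfl⟩, ?_⟩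
    show (k : G) * (g * w * g⁻¹) * (k : G)⁻¹ = _
    group
  have hk' : ((k : G) * g) * x * ((k : G) * g)⁻¹ = x⁻¹ := by
    calc ((k : G) * g) * x * ((k : G) * g)⁻¹ = (k : G) * (g * x * g⁻¹) * (k : G)⁻¹ := by group
      _ = x⁻¹ := by rw [hg, (((hmem _).1 k.2).inv_right).eq, mul_inv_cancel_right]
  obtain ⟨b, hb, l, hl⟩ := exists_odd_pow ((k : G) * g)
  set h : G := ((k : G) * g) ^ b
  have hhx : h * x * h⁻¹ = x⁻¹ := odd_pow_inverts hk' hb
  have hpow : ∀ j : ℕ, ∀ w ∈ W', h ^ j * w * (h ^ j)⁻¹ ∈ W' := by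
    intro j
    rw [← pow_mul]
    induction b * j with
    | zero => intro w hw; simpa using hw
    | succ n ih =>
      intro w hw
      have := hkg _ (ih w hw)
      rw [pow_succ']
      convert this using 1
      conv_lhs => rw [mul_inv_rev]
      simp only [mul_assoc]
  have hhF : h ∈ stabilizer G (fixedBy Ω x) := by
    rw [mem_stabilizer_iff, ← fix_conj, hhx, fixedBy_inv]
  have h1 : h = 1 := by
    refine d.eq_one_of_respects hx hc3 (stab_of_commute hcx) ha hca hl hhF fun ω hω hcω => ?_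
    have hord : h ^ (2 ^ l - 1) = h⁻¹ := eq_inv_of_mul_eq_one_left (by
      rw [← pow_succ, Nat.sub_add_cancel Nat.one_le_two_pow, hl])
    have hc' := hpow (2 ^ l - 1) c hcW
    rw [hord, inv_inv] at hc'
    obtain ⟨i, j, -, -, hij⟩ := hel _ hc'
    calc c • h • ω = h • (h⁻¹ * c * h) • ω := by rw [smul_smul, smul_smul]; congr 1; group
      _ = h • ω := by
        rw [hij, mul_smul, pow_smul_eq hcω j, pow_smul_eq (show x • ω = ω from hω) i]
  rw [h1] at hhx
  have h2 : x * x = 1 := mul_eq_one_iff_eq_inv.2 (by simpa using hhx)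
  exact hx.2.1 (by
    have := hx.1
    rw [pow_succ, pow_two, h2, one_mul] at this
    exact this)

/-- There is no big element whose centralizer has Sylow 3-subgroups of order nine while the
3-subgroups of the group are larger. -/
theorem OddData.false_of_small_centralizer (d : OddData G Ω) {x c : G} (hx : Big Ω x)
    (P : Sylow 3 G) (hP : 9 < Nat.card P) (hcx : Commute c x) (hc3 : c ^ 3 = 1) {a : Ω}
    (ha : a ∈ fixedBy Ω x) (hca : c • a ≠ a)
    (hbound : ∀ Y : Subgroup G, IsPGroup 3 Y → (∀ y ∈ Y, Commute y x) → Nat.card Y ≤ 9) :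
    False := by
  classical
  have : Fact (Nat.Prime 3) := ⟨Nat.prime_three⟩
  have hinv := d.not_inverted hx hcx hc3 ha hca hbound
  let A := Abelianization (P : Subgroup G)
  let of : (P : Subgroup G) →* A := Abelianization.of
  -- conjugates of `x` in `P` have centralizers of order nine and full classes
  have key : ∀ (x' : (P : Subgroup G)) (g : G), g * (x' : G) * g⁻¹ = x →
      Nat.card (Subgroup.centralizer ({x'} : Set (P : Subgroup G))) = 9 ∧ Nat.card A = 9 ∧
        (∀ a : A, a ^ 3 = 1) ∧ of x' ≠ 1 ∧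
        ∀ y : (P : Subgroup G), of y = of x' → ∃ p : (P : Subgroup G), p * x' * p⁻¹ = y := by
    intro x' g hg
    set Cx := Subgroup.centralizer ({x'} : Set (P : Subgroup G))
    have hx'3 : x' ^ 3 = 1 := Subtype.ext ((Subgroup.coe_pow _ _ _).trans
      ((conj_eq_one_iff (a := g)).1 (by rw [← conj_pow, hg, hx.1])))
    have hx'1 : x' ≠ 1 := fun e => hx.2.1 (by rw [← hg, e, Subgroup.coe_one, mul_one, mul_inv_cancel])
    have hle : Nat.card Cx ≤ 9 := by
      rw [← Subgroup.card_map_of_injective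
        (f := (MulAut.conj g).toMonoidHom.comp (P : Subgroup G).subtype) (K := Cx)
        ((MulAut.conj g).injective.comp (P : Subgroup G).subtype_injective)]
      refine hbound _ ((P.isPGroup'.to_subgroup _).map _) ?_
      rintro _ ⟨q, hq, rfl⟩
      rw [← hg]
      exact (show Commute (q : G) x' from congrArg Subtype.val
        (Subgroup.mem_centralizer_singleton_iff.1 hq)).map (MulAut.conj g).toMonoidHom
    have hnc : ¬ ∀ q : (P : Subgroup G), q * x' = x' * q := by
      intro h
      have htop : Cx = ⊤ := eq_top_iff.2 fun q _ => Subgroup.mem_centralizer_singleton_iff.2 (h q)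
      rw [htop, Subgroup.card_top] at hle
      omega
    obtain ⟨z, hzP, hz1, hz3, hzc⟩ := exists_central (p := 3) (N := (P : Subgroup G)) P.isPGroup' le_rfl
      (fun q hq n hn => mul_mem (mul_mem hq hn) (inv_mem hq)) (fun h => by
        rw [h, Subgroup.card_bot] at hP; omega)
    let z' : (P : Subgroup G) := ⟨z, hzP⟩
    have hzz : z' ∉ Subgroup.zpowers x' := by
      intro h
      obtain ⟨i, hi, hi'⟩ : ∃ i < 3, x' ^ i = z' := by
        obtain ⟨i, hi, he⟩ := Finset.mem_image.1 ((mem_zpowers_iff_mem_range_orderOf).1 h)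
        exact ⟨i, by rwa [orderOf_eq_prime hx'3 hx'1, Finset.mem_range] at hi, he⟩
      have hcz : ∀ q : (P : Subgroup G), q * z' = z' * q := fun q => Subtype.ext (hzc q q.2)
      interval_cases i
      · exact hz1 (by simpa [z'] using (congrArg Subtype.val hi').symm)
      · exact hnc fun q => by rw [← pow_one x', hi']; exact hcz q
      · refine hnc fun q => ?_
        have hx2 : x' = z' ^ 2 := by
          rw [← hi', ← pow_mul, show 2 * 2 = 3 + 1 by rfl, pow_add, hx'3, one_mul, pow_one]
        rw [hx2]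
        exact ((show Commute q z' from hcz q).pow_right 2).eq
    obtain ⟨h9, -⟩ := mem_nine (X := Cx) hx'3 hx'1 (y := z') (Subtype.ext hz3)
      (Subtype.ext (hzc x' x'.2).eq) hzz (Subgroup.mem_centralizer_singleton_iff.2 rfl)
      (Subgroup.mem_centralizer_singleton_iff.2 (Subtype.ext (hzc x' x'.2).eq).symm) hle
    -- the class fills a coset of the commutator subgroup
    let Q := (P : Subgroup G)
    have horb : Nat.card (orbit (ConjAct Q) x') * 9 = Nat.card Q := by
      rw [← h9, ← Nat.card_congr (ConjAct.toConjAct (G := Q)).toEquiv.symm]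
      have e : Nat.card (stabilizer (ConjAct Q) x') = Nat.card Cx :=
        Nat.card_congr (Equiv.subtypeEquiv (ConjAct.ofConjAct (G := Q)).toEquiv fun q => by
          rw [mem_stabilizer_iff, ConjAct.smul_def, Subgroup.mem_centralizer_singleton_iff]
          exact mul_inv_eq_iff_eq_mul)
      rw [← e, ← Nat.card_prod, Nat.card_congr (orbitProdStabilizerEquivGroup (ConjAct Q) x')]
    have hsub : orbit (ConjAct Q) x' ⊆ {y | of y = of x'} := by
      rintro _ ⟨q, rfl⟩
      show of (q • x') = of x'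
      rw [ConjAct.smul_def, map_mul, map_mul, map_inv, mul_comm, inv_mul_cancel_left]
    have hfib : Nat.card {y : Q | of y = of x'} = Nat.card (commutator Q) := by
      refine Nat.card_congr ((Equiv.mulLeft x'⁻¹).subtypeEquiv fun y => ?_)
      show of y = of x' ↔ x'⁻¹ * y ∈ commutator Q
      rw [← Abelianization.ker_of, MonoidHom.mem_ker, map_mul, map_inv, inv_mul_eq_one, eq_comm]
    have hAD : Nat.card A * Nat.card (commutator Q) = Nat.card Q :=
      (Subgroup.card_eq_card_quotient_mul_card_subgroup _).symm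
    have hcl : Nat.card (orbit (ConjAct Q) x') ≤ Nat.card (commutator Q) :=
      hfib ▸ Nat.card_mono (Set.toFinite _) hsub
    have hA9 : Nat.card A ≤ 9 := by
      have := Nat.card_pos (α := commutator Q)
      by_contra h
      have h10 := Nat.mul_le_mul_right (Nat.card (commutator Q)) (not_le.1 h : 10 ≤ Nat.card A)
      omega
    have hncyc : ¬ IsCyclic A := fun h => hnc fun q => comm_of_cyclic_abelianization P.isPGroup' h q x'
    obtain ⟨m, hm⟩ : ∃ m, Nat.card A = 3 ^ m := IsPGroup.iff_card.1 (P.isPGroup'.to_quotient _)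
    have hm2 : m = 2 := by
      have hm3 : m ≤ 2 := by
        by_contra h
        have := Nat.pow_le_pow_right (show 1 ≤ 3 by norm_num) (show 3 ≤ m by omega)
        omega
      interval_cases m
      · exact absurd (by
          have : Subsingleton A := (Nat.card_eq_one_iff_unique.1 (by simpa using hm)).1
          exact isCyclic_of_subsingleton) hncyc
      · exact absurd (isCyclic_of_prime_card (p := 3) (by simpa using hm)) hncyc
      · rfl
    rw [hm2] at hm
    have hA : Nat.card A = 9 := hm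
    have hexp : ∀ a : A, a ^ 3 = 1 := by
      intro a
      obtain ⟨i, hi, hi'⟩ := (Nat.dvd_prime_pow Nat.prime_three).1
        (show orderOf a ∣ 3 ^ 2 from (orderOf_dvd_natCard a).trans (dvd_of_eq hA))
      refine orderOf_dvd_iff_pow_eq_one.1 ?_
      rw [hi']
      interval_cases i
      · norm_num
      · norm_num
      · exact absurd (isCyclic_of_orderOf_eq_card a (by rw [hi', hA]; norm_num)) hncyc
    have heq : orbit (ConjAct Q) x' = {y | of y = of x'} := by
      refine Set.eq_of_subset_of_ncard_le hsub ?_ (Set.toFinite _)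
      rw [← Nat.card_coe_set_eq, ← Nat.card_coe_set_eq, hfib]
      rw [hA] at hAD
      omega
    refine ⟨h9, hA, hexp, fun h => hx'1 ?_, fun y hy => ?_⟩
    · obtain ⟨q, hq⟩ := heq ▸ (show (1 : Q) ∈ {y | of y = of x'} from (map_one of).trans h.symm)
      have hq' : ConjAct.ofConjAct q * x' * (ConjAct.ofConjAct q)⁻¹ = 1 := hq
      exact conj_eq_one_iff.1 hq'
    · obtain ⟨q, hq⟩ := heq ▸ (show y ∈ {y | of y = of x'} from hy)
      exact ⟨ConjAct.ofConjAct q, hq⟩
  -- evaluate the transfer
  have hV := hom_eq_one d.data.simple d.data.hna (MonoidHom.transfer of) x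
  have : Fintype (G ⧸ (P : Subgroup G)) := Fintype.ofFinite _
  rw [transfer_eq_prod_fixed of Nat.prime_three hx.1] at hV
  set Fx := {q : G ⧸ (P : Subgroup G) // x • q = q}
  let e : Fx → A := fun q => cv of q.1 x
  have hrep : ∀ q : Fx, ∃ x' : (P : Subgroup G), ∃ g : G, ((g : G ⧸ (P : Subgroup G)) = q.1) ∧
      g * (x' : G) * g⁻¹ = x ∧ e q = of x' := by
    intro q
    obtain ⟨g, hg⟩ := QuotientGroup.mk_surjective q.1
    have hm := (smul_coset_eq_iff x g).1 (by rw [hg]; exact q.2)
    exact ⟨⟨_, hm⟩, g, hg, by show g * (g⁻¹ * x * g) * g⁻¹ = x; group, cv_rep of hg hm⟩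
  set C := Subgroup.centralizer ({x} : Set G)
  have hfibre : ∀ q₀ : Fx, (Finset.univ.filter fun q => e q = e q₀).card * 9 = Nat.card C := by
    intro q₀
    obtain ⟨x', g, hg, hgx, hex⟩ := hrep q₀
    obtain ⟨h9, -, -, -, hcls⟩ := key x' g hgx
    have hst : Nat.card (stabilizer C q₀.1) = 9 := by
      rw [← h9]
      have hcm : ∀ c : G, Commute c x ↔ Commute (g⁻¹ * c * g) x' := by
        intro c
        conv_lhs => rw [← hgx]
        constructor
        · intro h
          simpa [MulAut.conj_apply, mul_assoc] using h.map (MulAut.conj g⁻¹).toMonoidHom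
        · intro h
          simpa [MulAut.conj_apply, mul_assoc] using h.map (MulAut.conj g).toMonoidHom
      have hfx : ∀ c : G, c • q₀.1 = q₀.1 ↔ g⁻¹ * c * g ∈ (P : Subgroup G) := fun c => by
        rw [← hg, smul_coset_eq_iff]
      refine Nat.card_congr
        { toFun := fun c => ⟨⟨g⁻¹ * ((c : C) : G) * g, (hfx _).1 c.2⟩,
            Subgroup.mem_centralizer_singleton_iff.2 (Subtype.ext
              ((hcm _).1 (Subgroup.mem_centralizer_singleton_iff.1 (c : C).2)).eq)⟩
          invFun := fun p => ⟨⟨g * ((p : (P : Subgroup G)) : G) * g⁻¹,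
            Subgroup.mem_centralizer_singleton_iff.2 ((hcm _).2 (by
              rw [show g⁻¹ * (g * ((p : (P : Subgroup G)) : G) * g⁻¹) * g = ((p : (P : Subgroup G)) : G) by group]
              exact congrArg Subtype.val (Subgroup.mem_centralizer_singleton_iff.1 p.2))).eq⟩,
            (hfx _).2 (by
              show g⁻¹ * (g * ((p : (P : Subgroup G)) : G) * g⁻¹) * g ∈ (P : Subgroup G)
              rw [show g⁻¹ * (g * ((p : (P : Subgroup G)) : G) * g⁻¹) * g = ((p : (P : Subgroup G)) : G) by group]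
              exact (p : (P : Subgroup G)).2)⟩
          left_inv := fun c => Subtype.ext (Subtype.ext (by show g * (g⁻¹ * _ * g) * g⁻¹ = _; group))
          right_inv := fun p => Subtype.ext (Subtype.ext (by show g⁻¹ * (g * _ * g⁻¹) * g = _; group)) }
    have horb : Nat.card (orbit C q₀.1) * 9 = Nat.card C := by
      rw [← hst, ← Nat.card_prod, Nat.card_congr (orbitProdStabilizerEquivGroup C q₀.1)]
    rw [← horb, ← Fintype.card_subtype, ← Nat.card_eq_fintype_card]
    congr 1
    have horbfix : ∀ q ∈ orbit C q₀.1, x • q = q := by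
      rintro _ ⟨c, rfl⟩
      show x • (c : G) • q₀.1 = (c : G) • q₀.1
      rw [smul_smul, ← (Subgroup.mem_centralizer_singleton_iff.1 c.2 : (c : G) * x = x * c), mul_smul,
        q₀.2]
    have hiff : ∀ q : Fx, e q = e q₀ ↔ q.1 ∈ orbit C q₀.1 := by
      intro q
      constructor
      · intro hq
        obtain ⟨x'', g', hg', hgx', hex'⟩ := hrep q
        obtain ⟨p, hp⟩ := hcls x'' (by rw [← hex', hq, hex])
        refine ⟨⟨g' * (p : G) * g⁻¹, Subgroup.mem_centralizer_singleton_iff.2 ?_⟩, ?_⟩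
        · have hp' : (p : G) * (x' : G) * (p : G)⁻¹ = (x'' : G) := congrArg Subtype.val hp
          calc g' * (p : G) * g⁻¹ * x = g' * ((p : G) * (x' : G) * (p : G)⁻¹) * g'⁻¹ * (g' * (p : G) * g⁻¹) := by
                rw [← hgx]; group
            _ = x * (g' * (p : G) * g⁻¹) := by rw [hp', hgx']
        · show (g' * (p : G) * g⁻¹) • q₀.1 = q.1
          rw [← hg, ← hg', show (g' * (p : G) * g⁻¹) • (g : G ⧸ (P : Subgroup G)) =
            ((g' * (p : G) * g⁻¹ * g : G) : G ⧸ (P : Subgroup G)) from rfl, inv_mul_cancel_right,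
            QuotientGroup.mk_mul_of_mem g' p.2]
      · rintro ⟨c, hc⟩
        have hcg : (((c : G) * g : G) : G ⧸ (P : Subgroup G)) = q.1 := by rw [← hc, ← hg]; rfl
        have heq : ((c : G) * g)⁻¹ * x * ((c : G) * g) = (x' : G) := by
          rw [mul_inv_rev, show g⁻¹ * (c : G)⁻¹ * x * ((c : G) * g) = g⁻¹ * ((c : G)⁻¹ * (x * c)) * g by
            group, ← (Subgroup.mem_centralizer_singleton_iff.1 c.2 : (c : G) * x = x * c),
            inv_mul_cancel_left, ← hgx]
          group
        rw [hex, show e q = of ⟨_, heq ▸ x'.2⟩ from cv_rep of hcg (heq ▸ x'.2)]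
        exact congrArg of (Subtype.ext heq)
    exact Nat.card_congr
      { toFun := fun q => ⟨q.1.1, (hiff q.1).1 q.2⟩
        invFun := fun o => ⟨⟨o.1, horbfix o.1 o.2⟩, (hiff _).2 o.2⟩
        left_inv := fun _ => rfl
        right_inv := fun _ => rfl }
  set I : Finset A := Finset.univ.image e with hI
  have hfx : Nonempty Fx := by
    by_contra h
    have : IsEmpty Fx := not_nonempty_iff.1 h
    exact not_dvd_card_fixed P hx.1 (by rw [Nat.card_of_isEmpty]; exact dvd_zero 3)
  obtain ⟨q₁⟩ := hfx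
  obtain ⟨x₁, g₁, -, hgx₁, -⟩ := hrep q₁
  obtain ⟨-, hA, hexp, -, -⟩ := key x₁ g₁ hgx₁
  obtain ⟨m, hm⟩ : ∃ m, Nat.card C = m * 9 := ⟨_, (hfibre q₁).symm⟩
  have hm3 : ¬ 3 ∣ m := by
    intro h
    obtain ⟨Y, hY⟩ := Sylow.exists_subgroup_card_pow_prime (G := C) 3 (n := 3) (by
      rw [hm]; obtain ⟨k, rfl⟩ := h; exact ⟨k, by ring⟩)
    have hY' := hbound (Y.map C.subtype) ((IsPGroup.of_card hY).map _)
      (by rintro _ ⟨y, -, rfl⟩; exact Subgroup.mem_centralizer_singleton_iff.1 y.2)
    rw [Subgroup.card_map_of_injective C.subtype_injective, hY] at hY'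
    norm_num at hY'
  have hfc : ∀ b ∈ I, (Finset.univ.filter fun q => e q = b).card = m := by
    intro b hb
    obtain ⟨q₀, -, rfl⟩ := Finset.mem_image.1 hb
    exact Nat.eq_of_mul_eq_mul_right (show 0 < 9 by norm_num) ((hfibre q₀).trans hm)
  have hprod : (∏ b ∈ I, b) ^ m = 1 := by
    rw [← Finset.prod_pow, ← hV, ← Finset.prod_fiberwise_of_maps_to
      (g := e) (t := I) (fun q _ => Finset.mem_image_of_mem e (Finset.mem_univ q))]
    refine Finset.prod_congr rfl fun b hb => ?_
    rw [Finset.prod_congr rfl (fun q hq => (Finset.mem_filter.1 hq).2), Finset.prod_const, hfc b hb]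
  have hcard : ¬ 3 ∣ I.card := by
    intro h
    refine not_dvd_card_fixed P hx.1 ?_
    rw [Nat.card_eq_fintype_card, ← Finset.card_univ, Finset.card_eq_sum_card_image e,
      Finset.sum_congr rfl hfc, Finset.sum_const, smul_eq_mul]
    exact h.mul_right m
  have hne := prod_ne_one hA hexp I (fun h => by
      obtain ⟨q, -, hq⟩ := Finset.mem_image.1 h
      obtain ⟨x', g, -, hgx, hex⟩ := hrep q
      exact (key x' g hgx).2.2.2.1 (hex ▸ hq)) (fun b hb hb' => by
      obtain ⟨q, -, rfl⟩ := Finset.mem_image.1 hb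
      obtain ⟨q', -, hq'⟩ := Finset.mem_image.1 hb'
      obtain ⟨x', g, -, hgx, hex⟩ := hrep q
      obtain ⟨x'', g', -, hgx', hex'⟩ := hrep q'
      obtain ⟨p, hp⟩ := (key x'' g' hgx').2.2.2.2 x'⁻¹ (by rw [map_inv, ← hex, ← hex', hq'])
      refine hinv (g * (p : G) * g'⁻¹) ?_
      have hp' : (p : G) * (x'' : G) * (p : G)⁻¹ = (x' : G)⁻¹ := congrArg Subtype.val hp
      calc g * (p : G) * g'⁻¹ * x * (g * (p : G) * g'⁻¹)⁻¹
          = g * ((p : G) * (x'' : G) * (p : G)⁻¹) * g⁻¹ := by rw [← hgx']; group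
        _ = x⁻¹ := by rw [hp', ← hgx]; group) hcard
  refine hne ?_
  have h3 : orderOf (∏ b ∈ I, b) ∣ 3 := orderOf_dvd_of_pow_eq_one (hexp _)
  have hmd := orderOf_dvd_of_pow_eq_one hprod
  rcases (Nat.dvd_prime Nat.prime_three).1 h3 with h | h
  · exact orderOf_eq_one_iff.1 h
  · exact absurd (h ▸ hmd) hm3

end CfsgLib.FixityFour
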