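import Cfsg.Agent.Lib.MacWilliams.NormalEight
import Cfsg.Agent.Lib.MacWilliams.RankTwo
import Cfsg.Agent.Lib.MacWilliams.Counting

/-!
Small criteria for 2-groups in which every section of exponent two has order at most 16.
-/

set_option autoImplicit false
set_option linter.unusedSectionVars false
set_option linter.style.haveILetI false

namespace CfsgLib.FixityFour

open Subgroup
open scoped commutatorElement

variable {X : Type*} [Group X] [Finite X]

/-- Every subgroup with all squares in a subgroup has index at most 16 over it. -/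
def SqBound (X : Type*) [Group X] : Prop :=
  ∀ H N : Subgroup X, N ≤ H → (∀ h ∈ H, h ^ 2 ∈ N) → Nat.card H ≤ 16 * Nat.card N

/-- Powers of two in an interval. -/
theorem two_pow_eq {n m i : ℕ} (hn : n = 2 ^ i) (h1 : 2 ^ m < 2 * n) (h2 : n ≤ 2 ^ m) : n = 2 ^ m := by
  subst hn
  rw [← pow_succ'] at h1
  have := (Nat.pow_lt_pow_iff_right one_lt_two).1 h1
  exact le_antisymm h2 (Nat.pow_le_pow_right two_pos (by omega))

/-- A normal elementary abelian subgroup of order at least 8 contains one of order 8. -/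
theorem exists_normal_eight (hX : IsPGroup 2 X) {K : Subgroup X} [K.Normal]
    (hK2 : ∀ a ∈ K, a ^ 2 = 1) (hK : 4 < Nat.card K) :
    ∃ B : Subgroup X, B.Normal ∧ (∀ b ∈ B, b ^ 2 = 1) ∧ Nat.card B = 8 := by
  haveI : Fact (Nat.Prime 2) := ⟨Nat.prime_two⟩
  have key : ∀ k : ℕ, 2 ^ k ≤ Nat.card K → ∃ M : Subgroup X, M.Normal ∧ M ≤ K ∧ Nat.card M = 2 ^ k := by
    intro k
    induction k with
    | zero => intro _; exact ⟨⊥, inferInstance, bot_le, by rw [Subgroup.card_bot, pow_zero]⟩
    | succ k ih =>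
      intro hk
      obtain ⟨M, hMn, hMK, hMc⟩ := ih ((Nat.pow_le_pow_right two_pos (by omega)).trans hk)
      haveI := hMn
      obtain ⟨y, hyK, hyM, hy2, hyc⟩ := MacWilliams.exists_central_involution_step hX K M fun h => by
        have h1 := Subgroup.card_le_of_le h
        have h2 := Nat.two_pow_pos k
        rw [hMc] at h1
        rw [pow_succ] at hk
        omega
      set π := QuotientGroup.mk' M
      have hy1 : π y ≠ 1 := fun h => hyM ((QuotientGroup.eq_one_iff _).1 h)
      have hy2' : π y ^ 2 = 1 := by rw [← map_pow]; exact (QuotientGroup.eq_one_iff _).2 hy2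
      have hcent : ∀ q : X ⧸ M, Commute q (π y) := fun q => by
        obtain ⟨g, rfl⟩ := QuotientGroup.mk'_surjective M q
        refine (commutatorElement_eq_one_iff_mul_comm.1 ?_).symm
        rw [← map_commutatorElement]
        exact (QuotientGroup.eq_one_iff _).2 (hyc g)
      have hzn : (zpowers (π y)).Normal := ⟨fun a ha g => by
        obtain ⟨i, rfl⟩ := ha
        show g * π y ^ i * g⁻¹ ∈ zpowers (π y)
        rw [((hcent g).zpow_right i).eq, mul_inv_cancel_right]
        exact zpow_mem (mem_zpowers _) i⟩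
      refine ⟨(zpowers (π y)).comap π, Subgroup.Normal.comap hzn π, fun x hx => ?_, ?_⟩
      · obtain ⟨i, hi⟩ := mem_zpowers_iff.1 hx
        rw [← map_zpow] at hi
        have h' : (y ^ i)⁻¹ * x ∈ M := QuotientGroup.eq.1 hi
        simpa using mul_mem (zpow_mem hyK i) (hMK h')
      · rw [MacWilliams.card_eq_map_mul_inf_ker π,
          Subgroup.map_comap_eq_self_of_surjective (QuotientGroup.mk'_surjective M),
          show π.ker = M from QuotientGroup.ker_mk' M, inf_eq_right.2 (fun a ha => by
            rw [mem_comap, show π a = 1 from (QuotientGroup.eq_one_iff a).2 ha]; exact one_mem _),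
          Nat.card_zpowers, orderOf_eq_prime hy2' hy1, hMc, pow_succ']
  obtain ⟨n, hn⟩ := MacWilliams.exists_card_eq_two_pow hX K
  have h8 : 2 ^ 3 ≤ Nat.card K := by
    rw [hn] at hK ⊢
    exact Nat.pow_le_pow_right two_pos ((Nat.pow_lt_pow_iff_right one_lt_two).1 (show 2 ^ 2 < 2 ^ n from hK))
  obtain ⟨M, hM, hMK, hMc⟩ := key 3 h8
  exact ⟨M, hM, fun b hb => hK2 b (hMK hb), hMc⟩

/-- An abelian subgroup `T` of order 16 with a subgroup of order 4 whose involutions have centralizer
`T`, inside a 2-group of order at most 64. -/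
theorem sqBound_of_order_sixty_four (hX : IsPGroup 2 X) {T A : Subgroup X} (hT : Nat.card T = 16)
    (hA : Nat.card A = 4) (hAT : A ≤ T) (hTc : ∀ a ∈ T, ∀ b ∈ T, Commute a b)
    (hspec : ∀ a ∈ A, a ≠ 1 → a ^ 2 = 1 → ∀ c : X, Commute c a → c ∈ T)
    (hX64 : Nat.card X ≤ 64) : SqBound X := by
  haveI : Fact (Nat.Prime 2) := ⟨Nat.prime_two⟩
  intro H N hNH hsq
  obtain ⟨i, hi⟩ := MacWilliams.exists_card_eq_two_pow hX H
  obtain ⟨j, hj⟩ := MacWilliams.exists_card_eq_two_pow hX N
  have hHX := Subgroup.card_le_card_group H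
  have hN := Nat.card_pos (α := N)
  rcases le_or_gt (Nat.card H) 16 with h16 | h16
  · exact h16.trans (Nat.le_mul_of_pos_right 16 hN)
  have h32 : 32 ≤ Nat.card H := by
    rw [hi] at h16 ⊢
    exact (show 2 ^ 5 ≤ 2 ^ i from Nat.pow_le_pow_right two_pos
      ((Nat.pow_lt_pow_iff_right one_lt_two).1 (show 2 ^ 4 < 2 ^ i from h16)))
  -- an involution of `A` in every such `H`
  have hHA : ∃ a ∈ H ⊓ A, a ≠ 1 ∧ a ^ 2 = 1 := by
    obtain ⟨k, hk⟩ := MacWilliams.exists_card_eq_two_pow hX (H ⊓ A)
    have h1 : (H ⊓ A).relIndex A * Nat.card ↥(H ⊓ A) = Nat.card A := by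
      have h := ((H ⊓ A).subgroupOf A).index_mul_card
      rwa [Nat.card_congr (Subgroup.subgroupOfEquivOfLe (inf_le_right : H ⊓ A ≤ A)).toEquiv] at h
    have h2 : (H ⊓ A).relIndex A ≤ H.index := by
      rw [Subgroup.inf_relIndex_right, ← Subgroup.relIndex_top_right]
      exact Subgroup.relIndex_le_of_le_right le_top Subgroup.FiniteIndex.index_ne_zero
    have h3 := H.index_mul_card
    have hidx : H.index ≤ 2 := by
      by_contra h
      have := Nat.mul_le_mul_right (Nat.card H) (not_le.1 h : 3 ≤ H.index)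
      omega
    have h4 : 1 < Nat.card ↥(H ⊓ A) := by
      by_contra h
      have h' : Nat.card ↥(H ⊓ A) = 1 := le_antisymm (not_lt.1 h) Nat.card_pos
      rw [h', mul_one, hA] at h1
      omega
    rw [hk] at h4
    obtain ⟨a, ha⟩ := exists_prime_orderOf_dvd_card' (G := ↥(H ⊓ A)) 2
      (hk ▸ dvd_pow_self 2 (fun e => by rw [e] at h4; norm_num at h4))
    refine ⟨a, a.2, fun e => ?_, ?_⟩
    · rw [show a = 1 from Subtype.ext e, orderOf_one] at ha; norm_num at ha
    · have := pow_orderOf_eq_one (a : X)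
      rwa [Subgroup.orderOf_coe, ha] at this
  obtain ⟨a, ⟨haH, haA⟩, ha1, ha2⟩ := hHA
  rcases le_or_gt 4 (Nat.card N) with hN4 | hN4
  · omega
  rcases Nat.eq_or_lt_of_le hN with hN1 | hN2
  · -- elementary abelian of order at least 32
    exfalso
    have hbot : N = ⊥ := Subgroup.card_eq_one.1 hN1.symm
    subst hbot
    have hcomm : ∀ h ∈ H, Commute h a := fun h hh => by
      have e := MacWilliams.commute_of_sq_eq_one (G := H)
        (fun g => Subtype.ext (mem_bot.1 (hsq g g.2))) ⟨h, hh⟩ ⟨a, haH⟩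
      exact congrArg Subtype.val e
    have := Subgroup.card_le_of_le (show H ≤ T from fun h hh => hspec a haA ha1 ha2 h (hcomm h hh))
    omega
  have hNeq : Nat.card N = 2 := by
    have : j = 1 := by
      rw [hj] at hN2 hN4
      have h1 : 0 < j := Nat.pos_of_ne_zero fun e => by rw [e] at hN2; norm_num at hN2
      have h2 : j < 2 := (Nat.pow_lt_pow_iff_right one_lt_two).1 (show 2 ^ j < 2 ^ 2 from hN4)
      omega
    rw [hj, this, pow_one]
  rw [hNeq]
  by_contra hgt
  have htop : H = ⊤ := Subgroup.eq_top_of_le_card _ (by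
    rw [hi] at hgt ⊢
    have h5 : 5 < i := (Nat.pow_lt_pow_iff_right one_lt_two).1 (show 2 ^ 5 < 2 ^ i by norm_num; omega)
    exact le_trans hX64 (show 2 ^ 6 ≤ 2 ^ i from Nat.pow_le_pow_right two_pos (by omega)))
  -- the class of `a` lies in a coset of `N`
  let f : X ⧸ T → N := fun q => ⟨⁅q.out, a⁆,
    MacWilliams.commutator_mem_of_sq_mem hsq (htop ▸ mem_top _) haH⟩
  have hf : Function.Injective f := by
    intro q r h
    have h' : ⁅q.out, a⁆ = ⁅r.out, a⁆ := congrArg Subtype.val h
    rw [commutatorElement_def, commutatorElement_def, mul_left_inj] at h'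
    have hm := hspec a haA ha1 ha2 (q.out⁻¹ * r.out) (by
      calc q.out⁻¹ * r.out * a = q.out⁻¹ * (r.out * a * r.out⁻¹) * r.out := by group
        _ = a * (q.out⁻¹ * r.out) := by rw [← h']; group)
    rw [← q.out_eq', ← r.out_eq']
    exact QuotientGroup.eq.2 hm
  have hq := Nat.card_le_card_of_injective f hf
  rw [hNeq, ← Subgroup.index_eq_card] at hq
  have h3 := T.index_mul_card
  rw [hT] at h3
  rw [htop, Subgroup.card_top] at hgt
  have := Nat.mul_le_mul_right 16 hq
  omega

end CfsgLib.FixityFour
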