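import Cfsg.Agent.Lib.FixityFour.Base
import Cfsg.Agent.Lib.FixityFour.RankSmall

/-!
2-groups acting so that nonidentity elements fix at most four points and involutions none or four,
with two commuting involutions having different sets of four fixed points.
-/

set_option autoImplicit false
set_option linter.unusedSectionVars false

namespace CfsgLib.FixityFour

open MulAction
open scoped Pointwise

variable {X : Type*} [Group X] [Finite X] {Ω : Type*} [MulAction X Ω] [Finite Ω]

variable (X Ω) in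
/-- A 2-group in which nonidentity elements fix at most four and involutions none or four points. -/
structure XData : Prop where
  two : IsPGroup 2 X
  fix : ∀ g : X, g ≠ 1 → (fixedBy Ω g).ncard ≤ 4
  inv : ∀ g : X, g ^ 2 = 1 → g ≠ 1 → (fixedBy Ω g).Nonempty → (fixedBy Ω g).ncard = 4

/-- An involution with fixed points. -/
def Good (Ω : Type*) [MulAction X Ω] (u : X) : Prop :=
  u ^ 2 = 1 ∧ u ≠ 1 ∧ (fixedBy Ω u).Nonempty

theorem XData.card_good (d : XData X Ω) {u : X} (hu : Good Ω u) : (fixedBy Ω u).ncard = 4 :=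
  d.inv u hu.1 hu.2.1 hu.2.2

/-- Fixing the fixed points of a good involution and one more point. -/
theorem XData.eq_one_of_extra (d : XData X Ω) {u q : X} (hu : Good Ω u)
    (hF : fixedBy Ω u ⊆ fixedBy Ω q) {b : Ω} (hb : b ∉ fixedBy Ω u) (hqb : q • b = b) : q = 1 := by
  by_contra h
  have := d.fix q h
  have h5 : (insert b (fixedBy Ω u)).ncard ≤ (fixedBy Ω q).ncard :=
    Set.ncard_le_ncard (Set.insert_subset hqb hF) (Set.toFinite _)
  rw [Set.ncard_insert_of_notMem hb (Set.toFinite _), d.card_good hu] at h5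
  omega

theorem two_cases {s : Set Ω} (hs : s.ncard = 2) {ω o x : Ω} (hω : ω ∈ s) (ho : o ∈ s) (hne : o ≠ ω)
    (hx : x ∈ s) : x = ω ∨ x = o := by
  have h : ({ω, o} : Set Ω) = s := Set.eq_of_subset_of_ncard_le
    (Set.insert_subset hω (Set.singleton_subset_iff.2 ho)) (by rw [Set.ncard_pair hne.symm, hs])
    (Set.toFinite _)
  rw [← h] at hx
  exact hx

/-- An element of a 2-set, fixed or swapped: squares of stabilizing elements fix it. -/
theorem sq_fix_of_two {s : Set Ω} (hs : s.ncard = 2) {c : X} (hc : ∀ ω ∈ s, c • ω ∈ s) {ω : Ω}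
    (hω : ω ∈ s) : c • c • ω = ω := by
  by_cases h : c • ω = ω
  · rw [h, h]
  · rcases two_cases hs hω (hc ω hω) h (hc _ (hc ω hω)) with h' | h'
    · exact h'
    · exact absurd (smul_left_cancel c h') h

/-- An element fixing one point of an invariant 2-set fixes both. -/
theorem fix_all_of_two {s : Set Ω} (hs : s.ncard = 2) {c : X} (hc : ∀ ω ∈ s, c • ω ∈ s) {p : Ω}
    (hp : p ∈ s) (hcp : c • p = p) {ω : Ω} (hω : ω ∈ s) : c • ω = ω := by
  by_cases h : ω = p
  · rw [h, hcp]
  · rcases two_cases hs hp hω h (hc ω hω) with h' | h'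
    · exact absurd (smul_left_cancel c (h'.trans hcp.symm)) h
    · exact h'

/-- Two elements swapping an invariant 2-set agree on it. -/
theorem swap_eq_of_two {s : Set Ω} (hs : s.ncard = 2) {g t : X} (hg : ∀ ω ∈ s, g • ω ∈ s)
    (ht : ∀ ω ∈ s, t • ω ∈ s) {p : Ω} (hp : p ∈ s) (hgp : g • p ≠ p) (htp : t • p ≠ p) {ω : Ω}
    (hω : ω ∈ s) : g • ω = t • ω := by
  have h1 : g • p = t • p := (two_cases hs hp (ht p hp) htp (hg p hp)).resolve_left hgp
  rcases two_cases hs hp (ht p hp) htp hω with rfl | rfl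
  · exact h1
  · have e : g • g • p = p := sq_fix_of_two hs hg hp
    rw [sq_fix_of_two hs ht hp, ← h1, e]

/-- Two commuting good involutions whose fixed sets differ but meet. -/
theorem XData.sqBound_of_meet (d : XData X Ω) {u v : X} (hu : Good Ω u) (hv : Good Ω v)
    (huv : Commute u v) (hne : fixedBy Ω u ≠ fixedBy Ω v) {e : Ω} (he : e ∈ fixedBy Ω u)
    (he' : e ∈ fixedBy Ω v) : SqBound X := by
  classical
  haveI : Fact (Nat.Prime 2) := ⟨Nat.prime_two⟩
  have hF := d.card_good hu
  have hF' := d.card_good hv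
  obtain ⟨a, ha, hav⟩ : ∃ a ∈ fixedBy Ω u, v • a ≠ a := by
    by_contra h
    push Not at h
    exact hne (Set.eq_of_subset_of_ncard_le h (by omega) (Set.toFinite _))
  have hvF : v ∈ stabilizer X (fixedBy Ω u) := stab_of_commute huv.symm
  have hv2 : v ^ 2 ^ 1 = 1 := by simpa using hv.1
  have hmod : (fixedBy Ω u).ncard % 2 = (fixedBy Ω u ∩ fixedBy Ω v).ncard % 2 :=
    ncard_modEq (p := 2) hv2 hvF
  have hinter := Set.ncard_inter_add_ncard_sdiff_eq_ncard (fixedBy Ω u) (fixedBy Ω v) (Set.toFinite _)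
  have hinter' := Set.ncard_inter_add_ncard_sdiff_eq_ncard (fixedBy Ω v) (fixedBy Ω u) (Set.toFinite _)
  rw [Set.inter_comm] at hinter'
  have hpos : 0 < (fixedBy Ω u ∩ fixedBy Ω v).ncard := (Set.ncard_pos (Set.toFinite _)).2 ⟨e, he, he'⟩
  have hpair : 2 ≤ (fixedBy Ω u \ fixedBy Ω v).ncard := by
    have hsub : ({a, v • a} : Set Ω) ⊆ fixedBy Ω u \ fixedBy Ω v := by
      rintro _ (rfl | rfl)
      · exact ⟨ha, hav⟩
      · exact ⟨smul_mem_of_stab hvF ha, fun h => hav (smul_left_cancel v h)⟩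
    have := Set.ncard_le_ncard hsub (Set.toFinite _)
    rwa [Set.ncard_pair hav.symm] at this
  have hO : (fixedBy Ω u \ fixedBy Ω v).ncard = 2 := by omega
  have hO' : (fixedBy Ω v \ fixedBy Ω u).ncard = 2 := by omega
  have hI : (fixedBy Ω u ∩ fixedBy Ω v).ncard = 2 := by omega
  obtain ⟨b, hb⟩ := Set.nonempty_of_ncard_ne_zero (s := fixedBy Ω v \ fixedBy Ω u) (by omega)
  set C := Subgroup.centralizer ({u} : Set X) ⊓ Subgroup.centralizer ({v} : Set X) with hC
  have hCu : ∀ c ∈ C, Commute c u := fun c hc => Subgroup.mem_centralizer_singleton_iff.1 hc.1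
  have hCv : ∀ c ∈ C, Commute c v := fun c hc => Subgroup.mem_centralizer_singleton_iff.1 hc.2
  have hpres : ∀ c ∈ C, ∀ ω, (ω ∈ fixedBy Ω u → c • ω ∈ fixedBy Ω u) ∧
      (ω ∈ fixedBy Ω v → c • ω ∈ fixedBy Ω v) := fun c hc ω =>
    ⟨smul_mem_of_commute (hCu c hc), smul_mem_of_commute (hCv c hc)⟩
  have hOp : ∀ c ∈ C, ∀ ω ∈ fixedBy Ω u \ fixedBy Ω v, c • ω ∈ fixedBy Ω u \ fixedBy Ω v :=
    fun c hc ω hω => ⟨(hpres c hc ω).1 hω.1, fun h => hω.2 (by
      have := (hpres c⁻¹ (inv_mem hc) _).2 h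
      rwa [inv_smul_smul] at this)⟩
  have hOp' : ∀ c ∈ C, ∀ ω ∈ fixedBy Ω v \ fixedBy Ω u, c • ω ∈ fixedBy Ω v \ fixedBy Ω u :=
    fun c hc ω hω => ⟨(hpres c hc ω).2 hω.1, fun h => hω.2 (by
      have := (hpres c⁻¹ (inv_mem hc) _).1 h
      rwa [inv_smul_smul] at this)⟩
  have hIp : ∀ c ∈ C, ∀ ω ∈ fixedBy Ω u ∩ fixedBy Ω v, c • ω ∈ fixedBy Ω u ∩ fixedBy Ω v :=
    fun c hc ω hω => ⟨(hpres c hc ω).1 hω.1, (hpres c hc ω).2 hω.2⟩
  have hC2 : ∀ c ∈ C, c ^ 2 = 1 := fun c hc => by
    refine d.eq_one_of_extra hu (fun ω hω => ?_) hb.2 ?_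
    · show c ^ 2 • ω = ω
      rw [pow_two, mul_smul]
      by_cases h : ω ∈ fixedBy Ω v
      · exact sq_fix_of_two hI (hIp c hc) ⟨hω, h⟩
      · exact sq_fix_of_two hO (hOp c hc) ⟨hω, h⟩
    · rw [pow_two, mul_smul]
      exact sq_fix_of_two hO' (hOp' c hc) hb
  let f : C → (fixedBy Ω u \ fixedBy Ω v : Set Ω) × (fixedBy Ω v \ fixedBy Ω u : Set Ω) ×
      (fixedBy Ω u ∩ fixedBy Ω v : Set Ω) := fun c =>
    (⟨(c : X) • a, hOp c c.2 a ⟨ha, hav⟩⟩, ⟨(c : X) • b, hOp' c c.2 b hb⟩,
      ⟨(c : X) • e, hIp c c.2 e ⟨he, he'⟩⟩)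
  have hf : Function.Injective f := by
    intro c c' h
    have h1 : (c : X) • a = (c' : X) • a := congrArg (fun p => (p.1 : Ω)) h
    have h2 : (c : X) • b = (c' : X) • b := congrArg (fun p => (p.2.1 : Ω)) h
    have h3 : (c : X) • e = (c' : X) • e := congrArg (fun p => (p.2.2 : Ω)) h
    have hfix : ∀ {ω : Ω}, (c : X) • ω = (c' : X) • ω → ((c'⁻¹ * c : C) : X) • ω = ω := fun {ω} hω => by
      rw [Subgroup.coe_mul, Subgroup.coe_inv, mul_smul, hω, inv_smul_smul]
    set q : X := ((c'⁻¹ * c : C) : X)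
    have hq : q ∈ C := (c'⁻¹ * c).2
    have hq1 : q = 1 := by
      refine d.eq_one_of_extra hu (fun ω hω => ?_) hb.2 (hfix h2)
      by_cases hωv : ω ∈ fixedBy Ω v
      · exact fix_all_of_two hI (hIp q hq) ⟨he, he'⟩ (hfix h3) ⟨hω, hωv⟩
      · exact fix_all_of_two hO (hOp q hq) ⟨ha, hav⟩ (hfix h1) ⟨hω, hωv⟩
    exact (inv_mul_eq_one.1 (Subtype.ext hq1)).symm
  have h8 : Nat.card C ≤ 8 := by
    refine (Nat.card_le_card_of_injective f hf).trans ?_
    rw [Nat.card_prod, Nat.card_prod, Nat.card_coe_set_eq, Nat.card_coe_set_eq, Nat.card_coe_set_eq,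
      hO, hO', hI]
  have huC : u ∈ C := ⟨Subgroup.mem_centralizer_singleton_iff.2 rfl,
    Subgroup.mem_centralizer_singleton_iff.2 huv⟩
  have hvC : v ∈ C := ⟨Subgroup.mem_centralizer_singleton_iff.2 huv.symm,
    Subgroup.mem_centralizer_singleton_iff.2 rfl⟩
  intro H N hNH hsq
  obtain ⟨i, hi⟩ := MacWilliams.exists_card_eq_two_pow d.two C
  rcases le_or_gt (Nat.card C) 4 with h4 | h4
  swap
  · have hC8 : Nat.card C = 8 := two_pow_eq (m := 3) hi (show 2 ^ 3 < 2 * Nat.card C by norm_num; omega) h8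
    refine MacWilliams.card_le_of_self_centralizing_eight d.two hC2 hC8 (le_antisymm (fun g hg => ?_) ?_) H N hNH hsq
    · exact ⟨Subgroup.mem_centralizer_singleton_iff.2 (hg u huC).symm,
        Subgroup.mem_centralizer_singleton_iff.2 (hg v hvC).symm⟩
    · intro g hg
      refine Subgroup.mem_centralizer_iff.2 fun c hc => ?_
      exact congrArg Subtype.val (MacWilliams.commute_of_sq_eq_one (G := C)
        (fun g => Subtype.ext (hC2 g g.2)) ⟨c, hc⟩ ⟨g, hg⟩)
  -- a central involution shows that one centralizer is small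
  obtain ⟨z, -, hz1, hz2, hzc⟩ := exists_central (p := 2) (P := (⊤ : Subgroup X)) (N := ⊤)
    (d.two.to_subgroup _) le_rfl (fun _ _ _ _ => Subgroup.mem_top _) (fun h => hu.2.1 (by
      rw [← Subgroup.mem_bot, ← h]; exact Subgroup.mem_top u))
  have hzC : z ∈ C := ⟨Subgroup.mem_centralizer_singleton_iff.2 (hzc u (Subgroup.mem_top _)).symm,
    Subgroup.mem_centralizer_singleton_iff.2 (hzc v (Subgroup.mem_top _)).symm⟩
  let four : Finset X := {1, u, v, u * v}
  have hne' : u ≠ v := fun h => hne (by rw [h])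
  have huv1 : u * v ≠ 1 := fun h => hne' (by
    rw [eq_inv_of_mul_eq_one_left h, inv_eq_of_mul_eq_one_right (by rw [← pow_two]; exact hv.1)])
  have hfour : four.card = 4 := by
    simp only [four]
    rw [Finset.card_insert_of_notMem (by simp [hu.2.1.symm, hv.2.1.symm, huv1.symm]),
      Finset.card_insert_of_notMem (by simp [hne', hv.2.1]),
      Finset.card_pair (fun h => hu.2.1 (mul_eq_right.1 h.symm))]
  have hmemC : z ∈ four := by
    have : Fintype C := Fintype.ofFinite _
    have hsub : four ⊆ (C : Set X).toFinset := by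
      intro x hx
      simp only [four, Finset.mem_insert, Finset.mem_singleton] at hx
      rw [Set.mem_toFinset]
      rcases hx with rfl | rfl | rfl | rfl
      exacts [one_mem C, huC, hvC, mul_mem huC hvC]
    have heq := Finset.eq_of_subset_of_card_le hsub (by
      rw [Set.toFinset_card, ← Nat.card_eq_fintype_card, hfour]; exact h4)
    rw [heq, Set.mem_toFinset]; exact hzC
  simp only [four, Finset.mem_insert, Finset.mem_singleton] at hmemC
  by_cases hzu : z = u
  · refine le_trans (MacWilliams.card_le_of_small_centralizer d.two (x := v) hv.1 ?_ H N hsq) (by omega)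
    refine (Subgroup.card_le_of_le ?_).trans h4
    exact fun g hg => ⟨Subgroup.mem_centralizer_singleton_iff.2 (hzu ▸ hzc g (Subgroup.mem_top _)), hg⟩
  · refine le_trans (MacWilliams.card_le_of_small_centralizer d.two (x := u) hu.1 ?_ H N hsq) (by omega)
    refine (Subgroup.card_le_of_le ?_).trans h4
    intro g hg
    refine ⟨hg, Subgroup.mem_centralizer_singleton_iff.2 ?_⟩
    have hgu : Commute g u := Subgroup.mem_centralizer_singleton_iff.1 hg
    rcases hmemC with rfl | rfl | rfl | rfl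
    · exact absurd rfl hz1
    · exact absurd rfl hzu
    · exact hzc g (Subgroup.mem_top _)
    · have h := hgu.inv_right.mul_right (hzc g (Subgroup.mem_top _))
      rwa [inv_mul_cancel_left] at h

/-- The disjoint case. -/
theorem XData.card_centralizer_le (d : XData X Ω)
    (hb : ∀ u v : X, Good Ω u → Good Ω v → Commute u v → ∀ e ∈ fixedBy Ω u, e ∈ fixedBy Ω v →
      fixedBy Ω u = fixedBy Ω v)
    {z z' : X} (hz : Good Ω z) (hz' : Good Ω z') (hne : fixedBy Ω z ≠ fixedBy Ω z')
    (hC : ∀ c : X, Commute c z → Commute c z') {a : Ω} (ha : a ∈ fixedBy Ω z) :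
    Nat.card (Subgroup.centralizer ({z} : Set X)) ≤ 16 ∧
      ((∀ c₁ c₂ : X, Commute c₁ z → Commute c₂ z → Commute c₁ c₂) →
        Nat.card (Subgroup.centralizer ({z} : Set X)) = 16 →
        Nat.card ↥(Subgroup.centralizer ({z} : Set X) ⊓ fixingSubgroup X (fixedBy Ω z)) = 4) := by
  classical
  haveI : Fact (Nat.Prime 2) := ⟨Nat.prime_two⟩
  set F := fixedBy Ω z
  have hF : F.ncard = 4 := d.card_good hz
  have hF' := d.card_good hz'
  set T := Subgroup.centralizer ({z} : Set X) with hT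
  have hTz : ∀ c ∈ T, Commute c z := fun c hc => Subgroup.mem_centralizer_singleton_iff.1 hc
  have hzz' : Commute z z' := hC z (Commute.refl z)
  have hdisj : ∀ ω ∈ F, ω ∉ fixedBy Ω z' := fun ω h h' => hne (hb z z' hz hz' hzz' ω h h')
  set K := T ⊓ fixingSubgroup X F with hK
  have hKfix : ∀ k ∈ K, F ⊆ fixedBy Ω k := fun k hk => (mem_fixingSubgroup_iff X).1 hk.2
  obtain ⟨b, hb'⟩ := Set.nonempty_of_ncard_ne_zero (s := fixedBy Ω z') (by omega)
  have hbF : b ∉ F := fun h => hdisj b h hb'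
  let f : K → fixedBy Ω z' := fun k => ⟨(k : X) • b, smul_mem_of_commute (hC _ (hTz _ k.2.1)) hb'⟩
  have hf : Function.Injective f := by
    intro k k' h
    have h' : (k : X) • b = (k' : X) • b := congrArg Subtype.val h
    exact (inv_mul_eq_one.1 (Subtype.ext (d.eq_one_of_extra hz (q := ((k'⁻¹ * k : K) : X))
      (hKfix _ (k'⁻¹ * k).2) hbF
      (by rw [Subgroup.coe_mul, Subgroup.coe_inv, mul_smul, h', inv_smul_smul])))).symm
  have hK4 : Nat.card K ≤ 4 := by
    refine (Nat.card_le_card_of_injective f hf).trans ?_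
    rw [Nat.card_coe_set_eq, hF']
  have horb : Nat.card (orbit T a) ≤ 4 := by
    rw [← hF, ← Nat.card_coe_set_eq]
    refine Nat.card_mono (Set.toFinite _) ?_
    rintro _ ⟨c, rfl⟩
    exact smul_mem_of_commute (hTz c c.2) ha
  have hprod : Nat.card (orbit T a) * Nat.card (stabilizer T a) = Nat.card T := by
    rw [← Nat.card_prod, Nat.card_congr (orbitProdStabilizerEquivGroup T a)]
  by_cases hall : ∀ t : T, (t : X) • a = a → F ⊆ fixedBy Ω (t : X)
  · have hst : Nat.card (stabilizer T a) ≤ Nat.card K :=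
      Nat.card_le_card_of_injective
        (fun r => (⟨((r : T) : X), (r : T).2, (mem_fixingSubgroup_iff X).2 (hall _ r.2)⟩ : K))
        fun r r' h => Subtype.ext (Subtype.ext (congrArg (fun u : K => (u : X)) h))
    refine ⟨hprod ▸ (Nat.mul_le_mul horb (hst.trans hK4)).trans (by norm_num), fun _ h16 => ?_⟩
    have := Nat.mul_le_mul horb hst
    rw [hprod, h16] at this
    change Nat.card K = 4
    omega
  push Not at hall
  obtain ⟨t, hta, htF⟩ := hall
  obtain ⟨c, hc, htc⟩ := Set.not_subset.1 htF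
  have htz := hTz t t.2
  have htz' := hC _ htz
  set a' := z' • a
  have ha' : a' ∈ F := smul_mem_of_commute hzz'.symm ha
  have hta' : (t : X) • a' = a' := by rw [smul_smul, htz'.eq, mul_smul, hta]
  have hca : c ≠ a := fun e => htc (e ▸ hta)
  have hca' : c ≠ a' := fun e => htc (e ▸ hta')
  have haa' : a ≠ a' := fun e => hdisj a ha e.symm
  have hrest : (F \ {a, a'}).ncard = 2 := by
    rw [Set.ncard_sdiff (by rintro _ (rfl | rfl); exacts [ha, ha']) (Set.toFinite _),
      Set.ncard_pair haa', hF]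
  have hrp : ∀ g : X, g • a = a → g • a' = a' → Commute g z → ∀ ω ∈ F \ {a, a'}, g • ω ∈ F \ {a, a'} := by
    intro g hga hga' hgz ω hω
    refine ⟨smul_mem_of_commute hgz hω.1, ?_⟩
    rintro (h | h)
    · exact hω.2 (Or.inl (smul_left_cancel g (h.trans hga.symm)))
    · exact hω.2 (Or.inr (smul_left_cancel g (h.trans hga'.symm)))
  have hst : ∀ r : X, Commute r z → r • a = a → r • a' = a' := fun r hr hra => by
    rw [smul_smul, (hC r hr).eq, mul_smul, hra]
  -- the kernel is not regular on the other fixed set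
  have hK2 : Nat.card K ≤ 2 := by
    by_contra hgt
    obtain ⟨i, hi⟩ := MacWilliams.exists_card_eq_two_pow d.two K
    have h4 : Nat.card K = 4 := two_pow_eq (m := 2) hi (by norm_num; omega) hK4
    obtain ⟨k, hk⟩ := (hf.bijective_of_nat_card_le (by rw [h4, Nat.card_coe_set_eq, hF'])).2
      ⟨(t : X) • b, smul_mem_of_commute htz' hb'⟩
    have hk' : (k : X) • b = (t : X) • b := congrArg Subtype.val hk
    set q := (k : X)⁻¹ * (t : X) with hq
    have hkfix : ∀ ω ∈ F, (k : X)⁻¹ • ω = ω := fun ω hω => hKfix _ (inv_mem k.2) hω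
    have hqb : q • b = b := by rw [hq, mul_smul, ← hk', inv_smul_smul]
    have hqa : q • a = a := by rw [hq, mul_smul, hta, hkfix a ha]
    have hqz : Commute q z := (hTz _ k.2.1).inv_left.mul_left htz
    have hq2 : q ^ 2 = 1 := by
      refine d.eq_one_of_extra hz (fun ω hω => ?_) hbF (by rw [pow_two, mul_smul, hqb, hqb])
      show q ^ 2 • ω = ω
      rw [pow_two, mul_smul]
      by_cases h : ω ∈ ({a, a'} : Set Ω)
      · rcases h with rfl | rfl
        · rw [hqa, hqa]
        · rw [hst q hqz hqa, hst q hqz hqa]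
      · exact sq_fix_of_two hrest (hrp q hqa (hst q hqz hqa) hqz) ⟨hω, h⟩
    have hqc : q • c ≠ c := by
      intro h
      rw [hq, mul_smul, inv_smul_eq_iff] at h
      exact htc (h.trans (hKfix _ k.2 hc))
    have hq1 : q ≠ 1 := fun h => hqc (by rw [h, one_smul])
    have heq := hb z q hz ⟨hq2, hq1, a, hqa⟩ hqz.symm a ha hqa
    have hcq : c ∈ fixedBy Ω q := heq ▸ hc
    exact hqc hcq
  have hstab : Nat.card (stabilizer T a) ≤ 4 := by
    have hcm : c ∈ F \ {a, a'} := ⟨hc, by rintro (e | e); exacts [hca e, hca' e]⟩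
    have hrp' : ∀ r : stabilizer T a, ∀ ω ∈ F \ {a, a'}, ((r : T) : X) • ω ∈ F \ {a, a'} :=
      fun r => hrp _ r.2 (hst _ (hTz _ (r : T).2) r.2) (hTz _ (r : T).2)
    let g : stabilizer T a → K × Bool := fun r =>
      if h : ((r : T) : X) • c = c then (⟨((r : T) : X), (r : T).2, (mem_fixingSubgroup_iff X).2 (by
          intro ω hω
          by_cases hω' : ω ∈ ({a, a'} : Set Ω)
          · rcases hω' with rfl | rfl
            exacts [r.2, hst _ (hTz _ (r : T).2) r.2]
          · exact fix_all_of_two hrest (hrp' r) hcm h ⟨hω, hω'⟩)⟩, true)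
      else (⟨(t : X)⁻¹ * ((r : T) : X), T.mul_mem (T.inv_mem t.2) (r : T).2, (mem_fixingSubgroup_iff X).2 (by
          intro ω hω
          show ((t : X)⁻¹ * ((r : T) : X)) • ω = ω
          rw [mul_smul, inv_smul_eq_iff]
          by_cases hω' : ω ∈ ({a, a'} : Set Ω)
          · rcases hω' with rfl | rfl
            · rw [hta]; exact r.2
            · rw [hta']; exact hst _ (hTz _ (r : T).2) r.2
          · exact swap_eq_of_two hrest (hrp' r) (hrp _ hta hta' htz) hcm h htc ⟨hω, hω'⟩)⟩, false)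
    have hg : Function.Injective g := by
      intro r r' h
      simp only [g] at h
      refine Subtype.ext (Subtype.ext ?_)
      split_ifs at h with h1 h2 h2
      · exact congrArg (fun p : K × Bool => (p.1 : X)) h
      · exact absurd (congrArg Prod.snd h) (by simp)
      · exact absurd (congrArg Prod.snd h) (by simp)
      · exact mul_left_cancel (congrArg (fun p : K × Bool => (p.1 : X)) h)
    refine (Nat.card_le_card_of_injective g hg).trans ?_
    rw [Nat.card_prod, Nat.card_eq_fintype_card (α := Bool), Fintype.card_bool]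
    omega
  refine ⟨hprod ▸ (Nat.mul_le_mul horb hstab).trans (by norm_num), fun hcomm h16 => ?_⟩
  -- an abelian group transitive on `F` is semiregular
  have horb4 : Nat.card (orbit T a) = 4 := by
    by_contra hne'
    have hm := Nat.mul_le_mul (show Nat.card (orbit T a) ≤ 3 by omega) hstab
    rw [hprod, h16] at hm
    norm_num at hm
  have hF'' : orbit T a = F := Set.eq_of_subset_of_ncard_le (by
    rintro _ ⟨c, rfl⟩
    exact smul_mem_of_commute (hTz c c.2) ha) (by rw [← Nat.card_coe_set_eq (orbit T a), horb4, hF]) (Set.toFinite _)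
  obtain ⟨s, hs⟩ := hF''.ge hc
  have hs' : (s : X) • a = c := hs
  refine absurd ?_ htc
  show (t : X) • c = c
  rw [← hs', smul_smul, (hcomm _ _ htz (hTz _ s.2)).eq, mul_smul, hta]

end CfsgLib.FixityFour
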