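import Cfsg.Agent.Lib.FixityFour.Rank

/-!
2-groups of fixity four with two good involutions of different fixed sets: sections of exponent two
have order at most 16.
-/

set_option autoImplicit false
set_option linter.unusedSectionVars false

namespace CfsgLib.FixityFour

open MulAction
open scoped Pointwise

variable {X : Type*} [Group X] [Finite X] {Ω : Type*} [MulAction X Ω] [Finite Ω]

theorem mem_cen {g z : X} : g ∈ Subgroup.centralizer ({z} : Set X) ↔ Commute g z :=
  Subgroup.mem_centralizer_singleton_iff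

/-- An abelian centralizer of order 16 with a subgroup of four elements whose involutions have the
same centralizer, and a normal elementary abelian subgroup of order 8. -/
theorem sqBound_of_abelian (hX : IsPGroup 2 X) {z : X} (hz2 : z ^ 2 = 1) (hz1 : z ≠ 1)
    {T A : Subgroup X} (hT : T = Subgroup.centralizer {z}) (hT16 : Nat.card T = 16)
    (hA : Nat.card A = 4) (hzA : z ∈ A) (hAT : A ≤ T) (hTc : ∀ a ∈ T, ∀ b ∈ T, Commute a b)
    (hspec : ∀ a ∈ A, a ≠ 1 → a ^ 2 = 1 → ∀ c : X, Commute c a → c ∈ T)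
    {B : Subgroup X} [B.Normal] (hB2 : ∀ b ∈ B, b ^ 2 = 1) (hB8 : Nat.card B = 8) : SqBound X := by
  classical
  haveI : Fact (Nat.Prime 2) := ⟨Nat.prime_two⟩
  have hzT : z ∈ T := hAT hzA
  have hTmem : ∀ {g : X}, g ∈ T ↔ Commute g z := fun {g} => by rw [hT]; exact mem_cen
  by_cases hsp : ∃ x ∈ B, x ∈ T ∧ x ≠ 1 ∧ ∀ c : X, Commute c x → c ∈ T
  · -- a centralizer `T` for an element of `B`
    obtain ⟨x, hxB, hxT, hx1, hxc⟩ := hsp
    refine sqBound_of_order_sixty_four hX hT16 hA hAT hTc hspec ?_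
    have hst : Nat.card (stabilizer (ConjAct X) x) = 16 := by
      rw [← hT16]
      refine Nat.card_congr (Equiv.subtypeEquiv (ConjAct.ofConjAct (G := X)).toEquiv fun q => ?_)
      rw [mem_stabilizer_iff, ConjAct.smul_def]
      exact mul_inv_eq_iff_eq_mul.trans
        ⟨fun h => hxc _ h, fun h => (hTc _ h _ hxT).eq⟩
    have horb : Nat.card (orbit (ConjAct X) x) ≤ 7 := by
      have h : orbit (ConjAct X) x ⊆ (B : Set X) \ {1} := by
        rintro _ ⟨q, rfl⟩
        show q • x ∈ (B : Set X) \ {1}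
        rw [ConjAct.smul_def]
        exact ⟨Subgroup.Normal.conj_mem ‹_› x hxB _, fun e => hx1 (conj_eq_one_iff.1 e)⟩
      refine (Nat.card_mono (Set.toFinite _) h).trans ?_
      rw [Nat.card_coe_set_eq, Set.ncard_sdiff_singleton_of_mem (show (1 : X) ∈ (B : Set X) from one_mem B),
        ← Nat.card_coe_set_eq]
      show Nat.card B - 1 ≤ 7
      omega
    obtain ⟨n, hn⟩ := (hX.of_equiv ConjAct.toConjAct).card_orbit x
    have h4 : Nat.card (orbit (ConjAct X) x) ≤ 4 := by
      rw [hn] at horb ⊢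
      exact Nat.pow_le_pow_right two_pos
        (show n ≤ 2 by have := (Nat.pow_lt_pow_iff_right one_lt_two).1 (show 2 ^ n < 2 ^ 3 by omega); omega)
    calc Nat.card X = Nat.card (orbit (ConjAct X) x) * Nat.card (stabilizer (ConjAct X) x) := by
          rw [← Nat.card_prod, Nat.card_congr (orbitProdStabilizerEquivGroup (ConjAct X) x)]
          exact Nat.card_congr ConjAct.toConjAct.toEquiv
      _ ≤ 4 * 16 := Nat.mul_le_mul h4 hst.le
  push Not at hsp
  -- the intersection with `B`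
  set W := B ⊓ T with hW
  have hBc : ∀ a ∈ B, ∀ b ∈ B, Commute a b := fun a ha b hb =>
    congrArg Subtype.val (MacWilliams.commute_of_sq_eq_one (G := B) (fun g => Subtype.ext (hB2 g g.2))
      ⟨a, ha⟩ ⟨b, hb⟩)
  have hWA : ∀ a ∈ W, a ∈ A → a = 1 := by
    intro a ha haA
    by_contra ha1
    obtain ⟨c, hc, hcT⟩ := hsp a ha.1 ha.2 ha1
    exact hcT (hspec a haA ha1 (hB2 a ha.1) c hc)
  have hzz : ∀ g : X, z * g * z⁻¹ = z * g * z := fun g => by
    rw [inv_eq_of_mul_eq_one_right (by rw [← pow_two]; exact hz2)]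
  have hW4 : 4 ≤ Nat.card W := by
    let φ : B →* B := MonoidHom.mk' (fun b => ⟨(b : X) * (z * b * z⁻¹), mul_mem b.2
        (Subgroup.Normal.conj_mem ‹_› _ b.2 z)⟩) fun b c => Subtype.ext (by
      show ((b : X) * c) * (z * ((b : X) * c) * z⁻¹) = (b : X) * (z * b * z⁻¹) * ((c : X) * (z * c * z⁻¹))
      rw [show z * ((b : X) * c) * z⁻¹ = (z * b * z⁻¹) * (z * c * z⁻¹) by group,
        (hBc c c.2 (z * b * z⁻¹) (Subgroup.Normal.conj_mem ‹_› _ b.2 z)).mul_mul_mul_comm])
    have hker : Nat.card φ.ker ≤ Nat.card W := by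
      refine Nat.card_le_card_of_injective (fun b => (⟨((b : B) : X), (b : B).2, hTmem.2 ?_⟩ : W))
        fun b c h => Subtype.ext (Subtype.ext (congrArg (fun w : W => (w : X)) h))
      have h : ((b : B) : X) * (z * (b : B) * z⁻¹) = 1 := congrArg Subtype.val b.2
      have h' : z * ((b : B) : X) * z⁻¹ = (b : B) := by
        rw [eq_inv_of_mul_eq_one_right h, inv_eq_of_mul_eq_one_right (by rw [← pow_two]; exact hB2 _ (b : B).2)]
      exact (mul_inv_eq_iff_eq_mul.1 h').symm
    have hran : Nat.card φ.range ≤ Nat.card W := by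
      refine Nat.card_le_card_of_injective (fun b => (⟨((b : B) : X), (b : B).2, hTmem.2 ?_⟩ : W))
        fun b c h => Subtype.ext (Subtype.ext (congrArg (fun w : W => (w : X)) h))
      obtain ⟨⟨b, hbm⟩, hbr⟩ := b
      obtain ⟨c, hc⟩ := hbr
      show b * z = z * b
      rw [show b = (c : X) * (z * c * z⁻¹) from (congrArg Subtype.val hc).symm]
      show ((c : X) * (z * c * z⁻¹)) * z = z * ((c : X) * (z * c * z⁻¹))
      rw [(hBc c c.2 (z * c * z⁻¹) (Subgroup.Normal.conj_mem ‹_› _ c.2 z)).eq, hzz]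
      calc z * (c : X) * z * c * z = z * ((c : X) * z * c * z) := by simp only [mul_assoc]
        _ = z * ((c : X) * (z * c * z)) := by simp only [mul_assoc]
        _ = z * ((z * c * z) * (c : X)) := by
          rw [(hBc c c.2 (z * c * z) (hzz c ▸ Subgroup.Normal.conj_mem ‹_› _ c.2 z)).eq]
    have h := Subgroup.card_eq_card_quotient_mul_card_subgroup φ.ker
    rw [Nat.card_congr (QuotientGroup.quotientKerEquivRange φ).toEquiv, hB8] at h
    obtain ⟨j, hj⟩ := MacWilliams.exists_card_eq_two_pow hX W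
    have h8 : 8 ≤ Nat.card W * Nat.card W := h ▸ Nat.mul_le_mul hran hker
    rw [hj, ← pow_add] at h8
    rw [hj]
    have := (Nat.pow_le_pow_iff_right one_lt_two).1 (show 2 ^ 3 ≤ 2 ^ (j + j) from h8)
    exact Nat.pow_le_pow_right two_pos (show 2 ≤ j by omega)
  let f : W × A → T := fun p => ⟨(p.1 : X) * p.2, mul_mem p.1.2.2 (hAT p.2.2)⟩
  have hf : Function.Injective f := by
    intro p q h
    have h' : (p.1 : X) * p.2 = q.1 * q.2 := congrArg Subtype.val h
    have := Subgroup.mul_injective_of_disjoint (disjoint_iff.2 ((Subgroup.eq_bot_iff_forall _).2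
      fun a ha => hWA a ha.1 ha.2) : Disjoint W A) h'
    exact this
  have hW4' : Nat.card W = 4 := by
    have := Nat.card_le_card_of_injective f hf
    rw [Nat.card_prod, hA, hT16] at this
    omega
  have hdec : ∀ t ∈ T, ∃ w ∈ W, ∃ a ∈ A, t = w * a := by
    intro t ht
    obtain ⟨p, hp⟩ := (hf.bijective_of_nat_card_le (by rw [Nat.card_prod, hW4', hA, hT16])).2 ⟨t, ht⟩
    exact ⟨p.1, p.1.2, p.2, p.2.2, (congrArg Subtype.val hp).symm⟩
  obtain ⟨b, hbB, hbT⟩ : ∃ b ∈ B, b ∉ T := by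
    by_contra h
    push Not at h
    have : Nat.card W = 8 := by rw [hW, inf_eq_left.2 h, hB8]
    omega
  -- conjugates of `z` in `T` have centralizer `T`
  have hnorm : ∀ g : X, g * z * g⁻¹ ∈ T → g ∈ Subgroup.normalizer (T : Set X) := by
    intro g hg
    have hle : T ≤ T.map (MulAut.conj g).toMonoidHom := fun t ht =>
      ⟨g⁻¹ * t * g, hTmem.2 (by
        have := (hTc t ht _ hg).map (MulAut.conj g⁻¹).toMonoidHom
        simpa [mul_assoc] using this), by simp [mul_assoc]⟩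
    have heq := Subgroup.eq_of_le_of_card_ge hle
      (by rw [Subgroup.card_map_of_injective (MulAut.conj g).injective])
    refine Subgroup.mem_normalizer_fintype fun t ht => ?_
    rw [SetLike.mem_coe, heq]
    exact ⟨t, ht, rfl⟩
  have hcomW : ∀ y : X, (y * z * y⁻¹ * z⁻¹) ∈ B → y * z * y⁻¹ * z⁻¹ ∈ T →
      y ∈ Subgroup.normalizer (T : Set X) := fun y _ h => hnorm y (by simpa using mul_mem h hzT)
  have hBN : ∀ x ∈ B, x ∈ Subgroup.normalizer (T : Set X) := by
    intro x hx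
    refine hnorm x ?_
    have hx' : x⁻¹ = x := inv_eq_of_mul_eq_one_right (by rw [← pow_two]; exact hB2 x hx)
    have hd : x * (z * x * z⁻¹) ∈ B := mul_mem hx (Subgroup.Normal.conj_mem ‹_› x hx z)
    have hcz : Commute (x * (z * x * z⁻¹)) z := by
      show x * (z * x * z⁻¹) * z = z * (x * (z * x * z⁻¹))
      rw [(hBc x hx _ (Subgroup.Normal.conj_mem ‹_› x hx z)).eq, hzz]
      calc z * x * z * x * z = z * (x * (z * x * z)) := by simp only [mul_assoc]
        _ = z * ((z * x * z) * x) := by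
          rw [(hBc x hx (z * x * z) (hzz x ▸ Subgroup.Normal.conj_mem ‹_› x hx z)).eq]
    rw [show x * z * x⁻¹ = x * (z * x * z⁻¹) * z by rw [hx']; group]
    exact mul_mem (hTmem.2 hcz) hzT
  -- `A` is elementary abelian
  have hA2 : ∀ a ∈ A, a ^ 2 = 1 := by
    by_contra hcon
    push Not at hcon
    obtain ⟨a, ha, ha2⟩ := hcon
    have ho : orderOf (⟨a, ha⟩ : A) = 4 := by
      obtain ⟨i, hi, hi'⟩ := (Nat.dvd_prime_pow Nat.prime_two).1
        (show orderOf (⟨a, ha⟩ : A) ∣ 2 ^ 2 from (orderOf_dvd_natCard _).trans (dvd_of_eq hA))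
      interval_cases i
      · exact absurd (show a ^ 2 = 1 by
          have : a = 1 := congrArg Subtype.val (orderOf_eq_one_iff.1 hi'); rw [this, one_pow]) ha2
      · exact absurd (show a ^ 2 = 1 by
          have := pow_orderOf_eq_one (⟨a, ha⟩ : A); rw [hi'] at this; exact congrArg Subtype.val this) ha2
      · simpa using hi'
    have hz_eq : a ^ 2 = z := by
      have : IsCyclic A := isCyclic_of_orderOf_eq_card _ (ho.trans hA.symm)
      have h1 : orderOf (⟨a, ha⟩ ^ 2 : A) = 2 := by rw [orderOf_pow, ho]; norm_num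
      have h2 : orderOf (⟨z, hzA⟩ : A) = 2 := by rw [Subgroup.orderOf_mk]; exact orderOf_eq_prime hz2 hz1
      classical
      cases nonempty_fintype A
      have h := IsCyclic.card_orderOf_eq_totient (α := A) (d := 2)
        (by rw [← Nat.card_eq_fintype_card, hA]; norm_num)
      rw [Nat.totient_two, Finset.card_eq_one] at h
      obtain ⟨c, hc⟩ := h
      have hm : ∀ y : A, orderOf y = 2 → y = c := fun y hy => Finset.mem_singleton.1 (hc ▸ by simp [hy])
      exact congrArg Subtype.val ((hm _ h1).trans (hm _ h2).symm)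
    have ht := (Subgroup.mem_normalizer_iff.1 (hBN b hbB) a).1 (hAT ha)
    obtain ⟨w, hw, a', ha', he⟩ := hdec _ ht
    have hsq : b * z * b⁻¹ = a' ^ 2 := by
      rw [← hz_eq, ← conj_pow, he, (hTc w hw.2 a' (hAT ha')).mul_pow, hB2 w hw.1, one_mul]
    refine hbT (hTmem.2 (mul_inv_eq_iff_eq_mul.1 ?_))
    have hne : b * z * b⁻¹ ≠ 1 := fun e => hz1 (conj_eq_one_iff.1 e)
    rw [hsq] at hne ⊢
    -- the only nontrivial square of `A` is `z`
    have ha'4 : (⟨a', ha'⟩ : A) ∈ Subgroup.zpowers (⟨a, ha⟩ : A) := by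
      rw [Subgroup.eq_top_of_card_eq (Subgroup.zpowers (⟨a, ha⟩ : A)) (by rw [Nat.card_zpowers, ho, hA])]
      exact Subgroup.mem_top _
    obtain ⟨i, hi⟩ := Subgroup.mem_zpowers_iff.1 ha'4
    have hi' : a ^ i = a' := congrArg Subtype.val hi
    rw [← hi', ← zpow_natCast, ← zpow_mul, mul_comm, zpow_mul, zpow_natCast, hz_eq] at hne ⊢
    rcases Int.even_or_odd i with ⟨j, rfl⟩ | ⟨j, rfl⟩
    · exact absurd (by rw [← two_mul, zpow_mul, zpow_ofNat, hz2, one_zpow]) hne
    · rw [zpow_add, zpow_mul, zpow_ofNat, hz2, one_zpow, one_mul, zpow_one]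
  set Q := Subgroup.centralizer (B : Set X) with hQ
  have hQn : ∀ q ∈ Q, ∀ g : X, g * q * g⁻¹ ∈ Q := fun q hq g => Subgroup.mem_centralizer_iff.2 fun x hx => by
    have h := Subgroup.mem_centralizer_iff.1 hq (g⁻¹ * x * g) (by
      simpa using Subgroup.Normal.conj_mem ‹_› x hx g⁻¹)
    calc x * (g * q * g⁻¹) = g * ((g⁻¹ * x * g) * q) * g⁻¹ := by group
      _ = g * (q * (g⁻¹ * x * g)) * g⁻¹ := by rw [h]
      _ = g * q * g⁻¹ * x := by group
  have hBQ : B ≤ Q := fun x hx => Subgroup.mem_centralizer_iff.2 fun y hy => (hBc y hy x hx).eq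
  have hQT : ∀ t ∈ T, t ∈ Q → t ∈ W := by
    intro t ht htQ
    obtain ⟨w, hw, a, ha, rfl⟩ := hdec t ht
    have hab : Commute b a := by
      have h1 : b * (w * a) = w * a * b := Subgroup.mem_centralizer_iff.1 htQ b hbB
      rw [← mul_assoc, (hBc b hbB w hw.1).eq, mul_assoc, mul_assoc] at h1
      exact mul_left_cancel h1
    rcases eq_or_ne a 1 with rfl | ha1
    · rwa [mul_one]
    · exact absurd (hspec a ha ha1 (hA2 a ha) b hab) hbT
  rcases eq_or_lt_of_le hBQ with hQB | hQB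
  · exact fun H N hNH hsq => MacWilliams.card_le_of_self_centralizing_eight hX hB2 hB8 hQB.symm H N hNH hsq
  set N := Subgroup.normalizer (T : Set X) with hN
  set Y := Q ⊓ N
  have hBY : B ≤ Y := le_inf hBQ hBN
  obtain ⟨y, hyY, hyB⟩ : ∃ y ∈ Y, y ∉ B := by
    haveI : Q.Normal := ⟨hQn⟩
    obtain ⟨y, hyQ, hyB, -, hyc⟩ :=
      MacWilliams.exists_central_involution_step hX Q B (not_le_of_gt hQB)
    open scoped commutatorElement in
    have hd : y * z * y⁻¹ * z⁻¹ ∈ B := by
      have := hyc z; rwa [commutatorElement_def] at this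
    refine ⟨y, ⟨hyQ, hcomW y hd ?_⟩, hyB⟩
    -- the commutator commutes with `z`
    refine hTmem.2 ?_
    set d := y * z * y⁻¹ * z⁻¹ with hd'
    have hdinv : d⁻¹ = d := inv_eq_of_mul_eq_one_right (by rw [← pow_two]; exact hB2 d hd)
    have hzd : z * d * z⁻¹ = d⁻¹ := by
      have hzi : z⁻¹ = z := inv_eq_of_mul_eq_one_right (by rw [← pow_two]; exact hz2)
      rw [hd', mul_inv_rev, mul_inv_rev, mul_inv_rev, inv_inv, inv_inv, hzi]
      calc z * (y * z * y⁻¹ * z) * z = z * (y * z * y⁻¹) * (z * z) := by simp only [mul_assoc]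
        _ = z * (y * (z * y⁻¹)) := by rw [← pow_two, hz2, mul_one]; simp only [mul_assoc]
    rw [hdinv] at hzd
    exact (mul_inv_eq_iff_eq_mul.1 hzd).symm
  -- orbits of the elements of `A` under `Y`
  have horbit : ∀ a ∈ A, a ≠ 1 → Nat.card Y = 16 ∧
      ∀ w ∈ W, ∃ g ∈ Y, g * a * g⁻¹ = w * a := by
    intro a ha ha1
    have hca : ∀ c ∈ Y, Commute c a → c ∈ W := fun c hc h => hQT c (hspec a ha ha1 (hA2 a ha) c h) hc.1
    let ψ : Y → W := fun g => ⟨(g : X) * a * (g : X)⁻¹ * a⁻¹, by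
      refine hQT _ (mul_mem ((Subgroup.mem_normalizer_iff.1 g.2.2 a).1 (hAT ha)) (inv_mem (hAT ha))) ?_
      rw [show (g : X) * a * (g : X)⁻¹ * a⁻¹ = (g : X) * (a * (g : X)⁻¹ * a⁻¹) by group]
      exact mul_mem g.2.1 (hQn _ (inv_mem g.2.1) a)⟩
    have hfib : ∀ g h : Y, ψ g = ψ h → ((h : X)⁻¹ * g) ∈ W := fun g h e => by
      have e' : (g : X) * a * (g : X)⁻¹ * a⁻¹ = (h : X) * a * (h : X)⁻¹ * a⁻¹ := congrArg Subtype.val e
      rw [mul_left_inj] at e'
      refine hca _ (mul_mem (inv_mem h.2) g.2) ?_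
      calc (h : X)⁻¹ * g * a = (h : X)⁻¹ * ((g : X) * a * (g : X)⁻¹) * g := by group
        _ = a * ((h : X)⁻¹ * g) := by rw [e']; group
    -- an injection into pairs
    let sec : W → Y := fun w => if h : ∃ g, ψ g = w then h.choose else 1
    have hsec : ∀ g : Y, ψ (sec (ψ g)) = ψ g := fun g => by
      simp only [sec]
      rw [dif_pos ⟨g, rfl⟩]
      exact (⟨g, rfl⟩ : ∃ g', ψ g' = ψ g).choose_spec
    let e : Y → W × W := fun g => (ψ g, ⟨_, hfib g (sec (ψ g)) (hsec g).symm⟩)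
    have he : Function.Injective e := by
      intro g h hgh
      have h1 : ψ g = ψ h := congrArg Prod.fst hgh
      have h2 : ((sec (ψ g)) : X)⁻¹ * g = ((sec (ψ h)) : X)⁻¹ * h := congrArg (fun p : W × W => (p.2 : X)) hgh
      rw [h1] at h2
      exact Subtype.ext (mul_left_cancel h2)
    have h16 := Nat.card_le_card_of_injective e he
    rw [Nat.card_prod, hW4'] at h16
    obtain ⟨j, hj⟩ := MacWilliams.exists_card_eq_two_pow hX Y
    have h8 : 8 < Nat.card Y := by
      by_contra h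
      have := Subgroup.eq_of_le_of_card_ge hBY (by omega)
      exact hyB (this ▸ hyY)
    have hY16 : Nat.card Y = 16 := two_pow_eq (m := 4) hj (by norm_num; omega) h16
    refine ⟨hY16, fun w hw => ?_⟩
    obtain ⟨g, hg⟩ := (he.bijective_of_nat_card_le (by rw [hY16, Nat.card_prod, hW4'])).2 (⟨w, hw⟩, 1)
    refine ⟨g, g.2, ?_⟩
    have : (g : X) * a * (g : X)⁻¹ * a⁻¹ = w := congrArg (fun p : W × W => (p.1 : X)) hg
    rwa [mul_inv_eq_iff_eq_mul] at this
  -- elements of `T` outside `W` have centralizer `T`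
  have hS : ∀ t ∈ T, t ∉ W → ∀ c : X, Commute c t → c ∈ T := by
    intro t ht htW c hc
    obtain ⟨w, hw, a, ha, rfl⟩ := hdec t ht
    have ha1 : a ≠ 1 := fun e => htW (by rw [e, mul_one]; exact hw)
    obtain ⟨g, hg, hge⟩ := (horbit a ha ha1).2 w hw
    rw [← hge] at hc
    have := hc.map (MulAut.conj g⁻¹).toMonoidHom
    have h := hspec a ha ha1 (hA2 a ha) (g⁻¹ * c * g) (by simpa [mul_assoc] using this)
    have := (Subgroup.mem_normalizer_iff.1 hg.2 _).1 h
    simpa [mul_assoc] using this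
  have hWN : ∀ g ∈ N, ∀ w ∈ W, g * w * g⁻¹ ∈ W := fun g hg w hw =>
    ⟨Subgroup.Normal.conj_mem ‹_› w hw.1 g, (Subgroup.mem_normalizer_iff.1 hg w).1 hw.2⟩
  -- the order of the normalizer
  have hTN : T ≤ N := Subgroup.le_normalizer
  let S12 : Set X := (T : Set X) \ (W : Set X)
  have hS12 : S12.ncard = 12 := by
    rw [Set.ncard_sdiff (show (W : Set X) ⊆ T from fun w hw => hw.2) (Set.toFinite _),
      ← Nat.card_coe_set_eq, ← Nat.card_coe_set_eq]
    show Nat.card T - Nat.card W = 12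
    omega
  have hcls : ∀ t ∈ S12, ((fun g : N => (g : X) * t * (g : X)⁻¹) '' Set.univ).ncard * 16 = Nat.card N := by
    intro t ht
    let π : N → X := fun g => (g : X) * t * (g : X)⁻¹
    have hsub : ∀ g h : N, π g = π h ↔ (g : X)⁻¹ * h ∈ T := fun g h => by
      constructor
      · intro e
        have e' : (g : X) * t * (g : X)⁻¹ = (h : X) * t * (h : X)⁻¹ := e
        refine hS t ht.1 ht.2 _ ?_
        calc (g : X)⁻¹ * h * t = (g : X)⁻¹ * ((h : X) * t * (h : X)⁻¹) * h := by group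
          _ = t * ((g : X)⁻¹ * h) := by rw [← e']; group
      · intro h'
        show (g : X) * t * (g : X)⁻¹ = h * t * (h : X)⁻¹
        calc (g : X) * t * (g : X)⁻¹ = g * (((g : X)⁻¹ * h) * t * ((g : X)⁻¹ * h)⁻¹) * (g : X)⁻¹ := by
              rw [(hTc _ h' t ht.1).eq, mul_inv_cancel_right]
          _ = _ := by group
    let ι : N ⧸ (T.subgroupOf N) → ((fun g : N => (g : X) * t * (g : X)⁻¹) '' Set.univ : Set X) :=
      Quotient.lift (fun g => ⟨π g, g, trivial, rfl⟩) fun g h e =>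
        Subtype.ext ((hsub g h).2 (QuotientGroup.leftRel_apply.1 e : g⁻¹ * h ∈ T.subgroupOf N))
    have hι : Function.Bijective ι := by
      refine ⟨fun q r => ?_, fun ⟨x, g, _, hx⟩ => ⟨(g : N ⧸ T.subgroupOf N), Subtype.ext hx⟩⟩
      obtain ⟨g, rfl⟩ := QuotientGroup.mk_surjective q
      obtain ⟨h, rfl⟩ := QuotientGroup.mk_surjective r
      exact fun e => QuotientGroup.eq.2 ((hsub g h).1 (congrArg Subtype.val e))
    have h := (T.subgroupOf N).index_mul_card
    rw [Nat.card_congr (Subgroup.subgroupOfEquivOfLe hTN).toEquiv, hT16, Subgroup.index_eq_card,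
      Nat.card_congr (Equiv.ofBijective ι hι), Nat.card_coe_set_eq] at h
    exact h
  have hclsub : ∀ t ∈ S12, ((fun g : N => (g : X) * t * (g : X)⁻¹) '' Set.univ) ⊆ S12 := by
    rintro t ht _ ⟨g, -, rfl⟩
    refine ⟨(Subgroup.mem_normalizer_iff.1 g.2 t).1 ht.1, fun h => ht.2 ?_⟩
    have := hWN _ (inv_mem g.2) _ h
    simpa [mul_assoc] using this
  have hzS12 : z ∈ S12 := ⟨hzT, fun h => hz1 (hWA z h hzA)⟩
  have hN64 : Nat.card N ≤ 64 := by
    obtain ⟨k, hk⟩ := MacWilliams.exists_card_eq_two_pow hX N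
    set O := ((fun g : N => (g : X) * z * (g : X)⁻¹) '' Set.univ)
    have h1 : O.ncard * 16 = Nat.card N := hcls z hzS12
    have h2 : O.ncard ≤ S12.ncard := Set.ncard_le_ncard (hclsub z hzS12) (Set.toFinite _)
    by_contra hgt
    have h128 : 2 ^ 7 ≤ 2 ^ k := Nat.pow_le_pow_right two_pos
      ((Nat.pow_lt_pow_iff_right one_lt_two).1 (show 2 ^ 6 < 2 ^ k by omega))
    obtain ⟨t, ht, htO⟩ : ∃ t ∈ S12, t ∉ O := by
      by_contra h
      push Not at h
      have h' := Set.ncard_le_ncard (s := S12) h (Set.toFinite _)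
      have h12 : Nat.card N = 192 := by
        have : O.ncard = 12 := by omega
        omega
      have h192 : 2 ^ 7 < 2 ^ k ∧ 2 ^ k < 2 ^ 8 := by rw [hk] at h12; omega
      have := (Nat.pow_lt_pow_iff_right one_lt_two).1 h192.1
      have := (Nat.pow_lt_pow_iff_right one_lt_two).1 h192.2
      omega
    have hd : Disjoint O ((fun g : N => (g : X) * t * (g : X)⁻¹) '' Set.univ) := by
      rw [Set.disjoint_left]
      rintro _ ⟨g, -, rfl⟩ ⟨h, -, e⟩
      refine htO ⟨h⁻¹ * g, trivial, ?_⟩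
      have e' : (h : X) * t * (h : X)⁻¹ = (g : X) * z * (g : X)⁻¹ := e
      show ((h⁻¹ * g : N) : X) * z * ((h⁻¹ * g : N) : X)⁻¹ = t
      rw [Subgroup.coe_mul, Subgroup.coe_inv]
      calc (h : X)⁻¹ * g * z * ((h : X)⁻¹ * g)⁻¹ = (h : X)⁻¹ * ((g : X) * z * (g : X)⁻¹) * h := by group
        _ = t := by rw [← e']; group
    have h3 := hcls t ht
    have h4 := Set.ncard_le_ncard (Set.union_subset (show O ⊆ S12 from hclsub z hzS12) (hclsub t ht)) (Set.toFinite _)
    rw [Set.ncard_union_eq hd (Set.toFinite _) (Set.toFinite _)] at h4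
    omega
  refine sqBound_of_order_sixty_four hX hT16 hA hAT hTc hspec ?_
  by_contra hX64
  have hNlt : N < ⊤ := lt_top_iff_ne_top.2 fun e => hX64 (by
    rw [e, Subgroup.card_top] at hN64; exact hN64)
  haveI : Group.IsNilpotent X := hX.isNilpotent
  obtain ⟨g, hgN', hgN⟩ := SetLike.exists_of_lt (Group.normalizerCondition_of_isNilpotent _ hNlt)
  set T' := T.map (MulAut.conj g).toMonoidHom with hT'
  have hT'N : T' ≤ N := by
    rintro _ ⟨t, ht, rfl⟩
    exact (Subgroup.mem_normalizer_iff.1 hgN' t).1 (hTN ht)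
  have hT'16 : Nat.card T' = 16 := by
    rw [hT', Subgroup.card_map_of_injective (MulAut.conj g).injective, hT16]
  have hT'c : ∀ p ∈ T', ∀ q ∈ T', Commute p q := by
    rintro _ ⟨p, hp, rfl⟩ _ ⟨q, hq, rfl⟩
    exact (hTc p hp q hq).map (MulAut.conj g).toMonoidHom
  have hint : T ⊓ T' ≤ W := by
    rintro t ⟨ht, ht'⟩
    by_contra htW
    have hle : T' ≤ T := fun p hp => hS t ht htW p (hT'c p hp t ht')
    have heq : T' = T := Subgroup.eq_of_le_of_card_ge hle (by omega)
    refine hgN (hnorm g ?_)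
    rw [← heq]
    exact ⟨z, hzT, rfl⟩
  let π : T' → X := fun p => (p : X) * z * (p : X)⁻¹
  have hπ : ∀ p q : T', π p = π q → ((q : X)⁻¹ * p) ∈ T ⊓ T' := fun p q e =>
    ⟨hTmem.2 (by
      have e' : (p : X) * z * (p : X)⁻¹ = q * z * (q : X)⁻¹ := e
      calc (q : X)⁻¹ * p * z = (q : X)⁻¹ * ((p : X) * z * (p : X)⁻¹) * p := by group
        _ = z * ((q : X)⁻¹ * p) := by rw [e']; group), T'.mul_mem (T'.inv_mem q.2) p.2⟩
  set O := ((fun h : N => (h : X) * z * (h : X)⁻¹) '' Set.univ)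
  have hO4 : O.ncard ≤ 4 := by have h : O.ncard * 16 = Nat.card N := hcls z hzS12; omega
  have hπO : ∀ p : T', π p ∈ O := fun p => ⟨⟨p, hT'N p.2⟩, trivial, rfl⟩
  classical
  let sec : X → T' := fun x => if h : ∃ p, π p = x then h.choose else 1
  have hsec : ∀ p : T', π (sec (π p)) = π p := fun p => by
    simp only [sec]
    rw [dif_pos ⟨p, rfl⟩]
    exact (⟨p, rfl⟩ : ∃ p', π p' = π p).choose_spec
  let e : T' → O × (T ⊓ T' : Subgroup X) := fun p => (⟨π p, hπO p⟩, ⟨_, hπ p _ (hsec p).symm⟩)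
  have he : Function.Injective e := by
    intro p q h
    have h1 : π p = π q := congrArg (fun r : O × (T ⊓ T' : Subgroup X) => (r.1 : X)) h
    have h2 : ((sec (π p)) : X)⁻¹ * p = ((sec (π q)) : X)⁻¹ * q :=
      congrArg (fun r : O × (T ⊓ T' : Subgroup X) => (r.2 : X)) h
    rw [h1] at h2
    exact Subtype.ext (mul_left_cancel h2)
  have hcard := Nat.card_le_card_of_injective e he
  rw [Nat.card_prod, hT'16, Nat.card_coe_set_eq] at hcard
  have hint4 := Subgroup.card_le_of_le hint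
  have heq : T ⊓ T' = W := Subgroup.eq_of_le_of_card_ge hint (by
    have := Nat.mul_le_mul_right (Nat.card ↥(T ⊓ T')) hO4
    omega)
  have hbij := he.bijective_of_nat_card_le (by
    rw [Nat.card_prod, hT'16, Nat.card_coe_set_eq, heq, hW4']
    omega)
  have hBT' : B ≤ T' := by
    intro x hx
    by_cases hxT : x ∈ T
    · exact ((heq.symm ▸ (⟨hx, hxT⟩ : x ∈ W)) : x ∈ T ⊓ T').2
    obtain ⟨p, hp⟩ := hbij.2 (⟨x * z * x⁻¹, ⟨⟨x, hBN x hx⟩, trivial, rfl⟩⟩, 1)
    have hp' : π p = x * z * x⁻¹ := congrArg (fun r : O × (T ⊓ T' : Subgroup X) => (r.1 : X)) hp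
    have ht : (p : X)⁻¹ * x ∈ T := hTmem.2 (by
      calc (p : X)⁻¹ * x * z = (p : X)⁻¹ * (x * z * x⁻¹) * x := by group
        _ = z * ((p : X)⁻¹ * x) := by rw [← hp']; simp only [π]; group)
    -- `p` is an involution in the coset
    set t := (p : X)⁻¹ * x with ht'
    have hA' : ∀ s ∈ T, s ^ 2 = 1 := fun s hs => by
      obtain ⟨w, hw, a, ha, rfl⟩ := hdec s hs
      rw [(hTc w hw.2 a (hAT ha)).mul_pow, hB2 w hw.1, hA2 a ha, one_mul]
    have hp2 : (p : X) ^ 2 = 1 := by
      obtain ⟨s, hs, hsp'⟩ := p.2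
      rw [← hsp', ← map_pow, hA' s hs, map_one]
    have hxt : Commute x t := by
      have hp3 : (p : X) = x * t := by
        have hti : t⁻¹ = t := inv_eq_of_mul_eq_one_right (by rw [← pow_two]; exact hA' t ht)
        rw [← hti, ht']; group
      have h2 := hp2
      rw [hp3, pow_two] at h2
      have hxi : x⁻¹ = x := inv_eq_of_mul_eq_one_right (by rw [← pow_two]; exact hB2 x hx)
      have hti : t⁻¹ = t := inv_eq_of_mul_eq_one_right (by rw [← pow_two]; exact hA' t ht)
      calc x * t = (x * t)⁻¹ := eq_inv_of_mul_eq_one_right h2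
        _ = t * x := by rw [mul_inv_rev, hxi, hti]
    obtain ⟨w, hw, a, ha, hta⟩ := hdec t ht
    have ha1 : a = 1 := by
      by_contra ha1
      refine hxT (hspec a ha ha1 (hA2 a ha) x ?_)
      have := (hBc x hx w hw.1).inv_right.mul_right (hta ▸ hxt)
      rwa [inv_mul_cancel_left] at this
    rw [ha1, mul_one] at hta
    have : x = (p : X) * t := by rw [ht', mul_inv_cancel_left]
    rw [this, hta]
    exact mul_mem p.2 ((heq.symm ▸ hw : w ∈ T ⊓ T').2)
  have hT'Y : T' ≤ Y := fun p hp => ⟨Subgroup.mem_centralizer_iff.2 fun x hx =>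
    (hT'c x (hBT' hx) p hp).eq, hT'N hp⟩
  obtain ⟨hY16, -⟩ := horbit z hzA hz1
  have hT'Y' : T' = Y := Subgroup.eq_of_le_of_card_ge hT'Y (by omega)
  have hzY : g * z * g⁻¹ ∈ Y := hT'Y' ▸ ⟨z, hzT, rfl⟩
  have hzQ : z ∈ Q := by
    have h := hQn _ hzY.1 g⁻¹
    simpa [mul_assoc] using h
  exact hbT (hTmem.2 (Subgroup.mem_centralizer_iff.1 hzQ b hbB))

/-- Two good involutions with different fixed sets bound the sections of exponent two. -/
theorem XData.sqBound (d : XData X Ω) {z z' : X} (hz : Good Ω z) (hz' : Good Ω z')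
    (hne : fixedBy Ω z ≠ fixedBy Ω z')
    (hC : ∀ c : X, Commute c z → Commute c z')
    (hstab : ∀ c : X, c • fixedBy Ω z = fixedBy Ω z → Commute c z) : SqBound X := by
  classical
  haveI : Fact (Nat.Prime 2) := ⟨Nat.prime_two⟩
  by_cases hmeet : ∃ u v : X, Good Ω u ∧ Good Ω v ∧ Commute u v ∧ fixedBy Ω u ≠ fixedBy Ω v ∧
      ∃ e ∈ fixedBy Ω u, e ∈ fixedBy Ω v
  · obtain ⟨u, v, hu, hv, huv, hne', e, he, he'⟩ := hmeet
    exact d.sqBound_of_meet hu hv huv hne' he he'
  push Not at hmeet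
  have hb : ∀ u v : X, Good Ω u → Good Ω v → Commute u v → ∀ e ∈ fixedBy Ω u, e ∈ fixedBy Ω v →
      fixedBy Ω u = fixedBy Ω v := fun u v hu hv huv e he he' =>
    by_contra fun h => hmeet u v hu hv huv h e he he'
  obtain ⟨a, ha⟩ := hz.2.2
  obtain ⟨hT16, hA4⟩ := d.card_centralizer_le hb hz hz' hne hC ha
  set T := Subgroup.centralizer ({z} : Set X) with hT
  intro H N hNH hsq
  by_cases hno : ∀ K : Subgroup X, K.Normal → IsMulCommutative K → (∀ a ∈ K, a ^ 2 = 1) → Nat.card K ≤ 4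
  · exact MacWilliams.card_le_of_no_normal_eight d.two hno H N hNH hsq
  push Not at hno
  obtain ⟨K, hKn, -, hK2, hK4⟩ := hno
  obtain ⟨B, hBn, hB2, hB8⟩ := exists_normal_eight d.two hK2 hK4
  -- an elementary abelian subgroup of order eight containing `z`
  obtain ⟨E, hzE, hE2, hE8⟩ : ∃ E : Subgroup X, z ∈ E ∧ (∀ e ∈ E, e ^ 2 = 1) ∧ Nat.card E = 8 := by
    by_cases hzB : z ∈ B
    · exact ⟨B, hzB, hB2, hB8⟩
    have hBc : ∀ a ∈ B, ∀ b ∈ B, Commute a b := fun a ha b hb =>
      congrArg Subtype.val (MacWilliams.commute_of_sq_eq_one (G := B) (fun g => Subtype.ext (hB2 g g.2))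
        ⟨a, ha⟩ ⟨b, hb⟩)
    have hzi : z⁻¹ = z := inv_eq_of_mul_eq_one_right (by rw [← pow_two]; exact hz.1)
    -- a subgroup of order four of `B` centralizing `z`
    obtain ⟨W, hWB, hWz, hW4⟩ : ∃ W : Subgroup X, W ≤ B ∧ (∀ w ∈ W, Commute w z) ∧ Nat.card W = 4 := by
      let φ : B →* B := MonoidHom.mk' (fun b => ⟨(b : X) * (z * b * z⁻¹), mul_mem b.2
          (hBn.conj_mem _ b.2 z)⟩) fun b c => Subtype.ext (by
        show ((b : X) * c) * (z * ((b : X) * c) * z⁻¹) = (b : X) * (z * b * z⁻¹) * ((c : X) * (z * c * z⁻¹))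
        rw [show z * ((b : X) * c) * z⁻¹ = (z * b * z⁻¹) * (z * c * z⁻¹) by group,
          (hBc c c.2 (z * b * z⁻¹) (hBn.conj_mem _ b.2 z)).mul_mul_mul_comm])
      have hker : Nat.card φ.ker ≤ Nat.card ↥(B ⊓ T) := by
        refine Nat.card_le_card_of_injective (fun b => (⟨((b : B) : X), (b : B).2, mem_cen.2 ?_⟩ : ↥(B ⊓ T)))
          fun b c h => Subtype.ext (Subtype.ext (congrArg (fun w : ↥(B ⊓ T) => (w : X)) h))
        have h : ((b : B) : X) * (z * (b : B) * z⁻¹) = 1 := congrArg Subtype.val b.2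
        have h' : z * ((b : B) : X) * z⁻¹ = (b : B) := by
          rw [eq_inv_of_mul_eq_one_right h, inv_eq_of_mul_eq_one_right (by rw [← pow_two]; exact hB2 _ (b : B).2)]
        exact (mul_inv_eq_iff_eq_mul.1 h').symm
      have hran : Nat.card φ.range ≤ Nat.card ↥(B ⊓ T) := by
        refine Nat.card_le_card_of_injective (fun b => (⟨((b : B) : X), (b : B).2, mem_cen.2 ?_⟩ : ↥(B ⊓ T)))
          fun b c h => Subtype.ext (Subtype.ext (congrArg (fun w : ↥(B ⊓ T) => (w : X)) h))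
        obtain ⟨⟨b, hbm⟩, hbr⟩ := b
        obtain ⟨c, hc⟩ := hbr
        show b * z = z * b
        rw [show b = (c : X) * (z * c * z⁻¹) from (congrArg Subtype.val hc).symm]
        show ((c : X) * (z * c * z⁻¹)) * z = z * ((c : X) * (z * c * z⁻¹))
        rw [(hBc c c.2 (z * c * z⁻¹) (hBn.conj_mem _ c.2 z)).eq, hzi]
        calc z * (c : X) * z * c * z = z * ((c : X) * (z * c * z)) := by simp only [mul_assoc]
          _ = z * ((z * c * z) * (c : X)) := by
            rw [(hBc c c.2 (z * c * z) (by simpa [hzi] using hBn.conj_mem _ c.2 z)).eq]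
      have h := Subgroup.card_eq_card_quotient_mul_card_subgroup φ.ker
      rw [Nat.card_congr (QuotientGroup.quotientKerEquivRange φ).toEquiv, hB8] at h
      obtain ⟨j, hj⟩ := MacWilliams.exists_card_eq_two_pow d.two (B ⊓ T)
      have h8 : 8 ≤ Nat.card ↥(B ⊓ T) * Nat.card ↥(B ⊓ T) := h ▸ Nat.mul_le_mul hran hker
      rw [hj, ← pow_add] at h8
      have := (Nat.pow_le_pow_iff_right one_lt_two).1 (show 2 ^ 3 ≤ 2 ^ (j + j) from h8)
      obtain ⟨W, hW⟩ := Sylow.exists_subgroup_card_pow_prime (G := ↥(B ⊓ T)) 2 (n := 2) (by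
        rw [hj]; exact pow_dvd_pow 2 (by omega))
      refine ⟨W.map (B ⊓ T).subtype, ?_, ?_, ?_⟩
      · rintro _ ⟨w, -, rfl⟩; exact w.2.1
      · rintro _ ⟨w, -, rfl⟩; exact mem_cen.1 w.2.2
      · rw [Subgroup.card_map_of_injective (B ⊓ T).subtype_injective, hW]; norm_num
    have hcomm : ∀ (m : W) (n : Subgroup.zpowers z), Commute (m : X) n := by
      rintro ⟨m, hm⟩ ⟨n, k, rfl⟩
      exact (hWz m hm).zpow_right k
    let ψ : W × Subgroup.zpowers z →* X := W.subtype.noncommCoprod (Subgroup.zpowers z).subtype hcomm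
    have hψ : Function.Injective ψ := by
      intro p q h
      refine Subgroup.mul_injective_of_disjoint (disjoint_iff.2 ((Subgroup.eq_bot_iff_forall _).2 ?_)) h
      rintro x ⟨hxW, k, rfl⟩
      rcases Int.even_or_odd k with ⟨j, rfl⟩ | ⟨j, rfl⟩
      · show z ^ (j + j) = 1
        rw [← two_mul, zpow_mul, zpow_ofNat, hz.1, one_zpow]
      · refine absurd (hWB hxW) ?_
        show z ^ (2 * j + 1) ∉ B
        rwa [zpow_add, zpow_mul, zpow_ofNat, hz.1, one_zpow, one_mul, zpow_one]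
    refine ⟨ψ.range, ⟨(1, ⟨z, Subgroup.mem_zpowers z⟩), show ((1 : W) : X) * z = z by rw [Subgroup.coe_one, one_mul]⟩, ?_, ?_⟩
    · rintro _ ⟨⟨⟨w, hw⟩, ⟨x, k, rfl⟩⟩, rfl⟩
      show (w * z ^ k) ^ 2 = 1
      rw [((hWz w hw).zpow_right k).mul_pow, hB2 w (hWB hw), one_mul, ← zpow_natCast, ← zpow_mul,
        mul_comm, zpow_mul, zpow_natCast, hz.1, one_zpow]
    · rw [Nat.card_congr (MonoidHom.ofInjective hψ).toEquiv.symm, Nat.card_prod, hW4, Nat.card_zpowers,
        orderOf_eq_prime hz.1 hz.2.1]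
  have hEc : ∀ a ∈ E, ∀ b ∈ E, Commute a b := fun a ha b hb =>
    congrArg Subtype.val (MacWilliams.commute_of_sq_eq_one (G := E) (fun g => Subtype.ext (hE2 g g.2))
      ⟨a, ha⟩ ⟨b, hb⟩)
  by_cases hCE : Subgroup.centralizer (E : Set X) = E
  · exact MacWilliams.card_le_of_self_centralizing_eight d.two hE2 hE8 hCE H N hNH hsq
  -- now `T` is abelian of order sixteen
  have hEle : E ≤ Subgroup.centralizer (E : Set X) := fun e he =>
    Subgroup.mem_centralizer_iff.2 fun x hx => (hEc x hx e he).eq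
  have hlt := lt_of_le_of_ne hEle (Ne.symm hCE)
  have hCT : Subgroup.centralizer (E : Set X) ≤ T := fun g hg =>
    mem_cen.2 (Subgroup.mem_centralizer_iff.1 hg z hzE).symm
  have h2 := MacWilliams.card_mul_two_le_of_lt d.two hlt
  have hTeq : Subgroup.centralizer (E : Set X) = T :=
    Subgroup.eq_of_le_of_card_ge hCT (by omega)
  have hTcard : Nat.card T = 16 := by rw [hTeq] at h2; omega
  have hTc : ∀ p ∈ T, ∀ q ∈ T, Commute p q := by
    intro p hp q hq
    have hEp : ∀ e ∈ E, ∀ r ∈ T, Commute e r := fun e he r hr => by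
      rw [← hTeq] at hr
      exact Subgroup.mem_centralizer_iff.1 hr e he
    by_cases hpE : p ∈ E
    · exact hEp p hpE q hq
    -- `T` is generated by `E` and `p`
    have hlt' : E < (Subgroup.centralizer ({p} : Set X) ⊓ T) :=
      lt_of_le_of_ne (fun e he => ⟨mem_cen.2 (hEp e he p hp), hTeq ▸ hEle he⟩) fun e =>
        hpE (e ▸ ⟨mem_cen.2 (Commute.refl p), hp⟩)
    have h3 := MacWilliams.card_mul_two_le_of_lt d.two hlt'
    have h4 := Subgroup.eq_of_le_of_card_ge (inf_le_right : Subgroup.centralizer ({p} : Set X) ⊓ T ≤ T) (by omega)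
    exact (mem_cen.1 (h4.ge hq).1).symm
  set A := T ⊓ fixingSubgroup X (fixedBy Ω z)
  have hA : Nat.card A = 4 :=
    hA4 (fun c c' h h' => hTc c (mem_cen.2 h) c' (mem_cen.2 h')) hTcard
  refine sqBound_of_abelian (T := T) (A := A) d.two hz.1 hz.2.1 rfl hTcard hA
    ⟨mem_cen.2 (Commute.refl z), (mem_fixingSubgroup_iff X).2 fun _ h => h⟩ inf_le_left hTc
    (fun x hx hx1 hx2 c hc => mem_cen.2 (hstab c ?_)) (B := B) hB2 hB8 H N hNH hsq
  have hsub : fixedBy Ω z ⊆ fixedBy Ω x := (mem_fixingSubgroup_iff X).1 hx.2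
  have heq : fixedBy Ω x = fixedBy Ω z :=
    (Set.eq_of_subset_of_ncard_le hsub (by
      rw [d.card_good hz]; exact d.fix x hx1) (Set.toFinite _)).symm
  rw [← heq]
  exact mem_stabilizer_iff.1 (stab_of_commute hc)

end CfsgLib.FixityFour
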